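import Cfsg.Agent.Lib.GolayTables.Subgroups
import Cfsg.Agent.Lib.Golay.OrbitApps

/-!
# Stabilisers in `M24` of small configurations, Sylow conjugation, elements of prime order
-/

set_option autoImplicit false

namespace CfsgLib.GolayIndex

open Cfsg CfsgLib.Golay
open scoped Pointwise

/-- A subgroup of full `p`-power contains a conjugate of any subgroup of that order. -/
theorem exists_le_conj {G : Type*} [Group G] [Finite G] (p n : ℕ) [hp : Fact p.Prime]
    (hn : (Nat.card G).factorization p = n) (P H : Subgroup G) (hP : Nat.card P = p ^ n)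
    (hH : p ^ n ∣ Nat.card H) : ∃ g : G, P ≤ H.map (MulAut.conj g).toMonoidHom := by
  obtain ⟨Q, hQ⟩ := Sylow.exists_subgroup_card_pow_prime p hH
  have hQ' : Nat.card (Q.map H.subtype) = p ^ (Nat.card G).factorization p := by
    rw [Subgroup.card_map_of_injective H.subtype_injective, hQ, hn]
  let S : Sylow p G := Sylow.ofCard P (by rw [hP, hn])
  let T : Sylow p G := Sylow.ofCard (Q.map H.subtype) hQ'
  obtain ⟨g, hg⟩ := MulAction.exists_smul_eq G T S
  refine ⟨g, ?_⟩
  have h := congrArg (fun R : Sylow p G => (R : Subgroup G)) hg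
  rw [Sylow.coe_subgroup_smul] at h
  change (Q.map H.subtype).map (MulAut.conj g).toMonoidHom = P at h
  rw [← h]
  exact Subgroup.map_mono (Subgroup.map_subtype_le Q)

theorem factorization_eq {G : Type*} {p n N : ℕ} [hp : Fact p.Prime] (hG : Nat.card G = N) (hN : N ≠ 0)
    (h1 : p ^ n ∣ N) (h2 : ¬ p ^ (n + 1) ∣ N) : (Nat.card G).factorization p = n := by
  rw [hG]
  have a := (Nat.Prime.pow_dvd_iff_le_factorization hp.out hN).mp h1
  have b : ¬ n + 1 ≤ N.factorization p := fun h => h2 ((Nat.Prime.pow_dvd_iff_le_factorization hp.out hN).mpr h)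
  omega

/-- The stabiliser of a point and a set avoiding it has index `24 * choose 23 k`. -/
theorem natCard_pointSet (x : GolayPt) (s : Finset GolayPt) (hx : x ∉ s) (hs : s.card ≤ 4) :
    Nat.choose 23 s.card * Nat.card ↥(MulAction.stabilizer M24 x ⊓ MulAction.stabilizer M24 s) = 10200960 := by
  classical
  set K := MulAction.stabilizer M24 x with hK
  have hcard : Nat.card K = 10200960 := by
    have horb : MulAction.orbit M24 x = Set.univ := by
      refine Set.eq_univ_of_forall fun y => ?_
      obtain ⟨g, hg, hgxy⟩ := exists_map_eq (L := [x]) (L' := [y]) (by simp) (by simp) rfl (by simp)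
      exact ⟨⟨g, hg⟩, List.head_eq_of_cons_eq hgxy⟩
    have h := natCard_orbit_mul (G := M24) x
    rw [horb, Set.ncard_univ, Nat.card_eq_fintype_card, card_golayPt, natCard_M24] at h
    rw [hK]
    omega
  have horb : MulAction.orbit K s = ↑((Finset.univ.erase x).powersetCard s.card) := by
    ext t
    rw [Finset.mem_coe, Finset.mem_powersetCard]
    constructor
    · rintro ⟨⟨g, hg⟩, rfl⟩
      refine ⟨fun r hr => ?_, ?_⟩
      · obtain ⟨u, hu, rfl⟩ := Finset.mem_smul_finset.mp hr
        rw [Finset.mem_erase]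
        refine ⟨fun h => hx ?_, Finset.mem_univ _⟩
        rwa [← MulAction.injective g (h.trans (MulAction.mem_stabilizer_iff.mp hg).symm)]
      · show ((g : Equiv.Perm GolayPt) • s).card = s.card
        rw [Finset.card_smul_finset]
    · rintro ⟨ht, htc⟩
      have hxt : x ∉ t := fun h => (Finset.mem_erase.mp (ht h)).1 rfl
      obtain ⟨g, hg, hmap⟩ := exists_map_eq (L := x :: s.toList) (L' := x :: t.toList)
        (List.nodup_cons.mpr ⟨by rwa [Finset.mem_toList], s.nodup_toList⟩)
        (List.nodup_cons.mpr ⟨by rwa [Finset.mem_toList], t.nodup_toList⟩)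
        (by simp [htc]) (by simp; omega)
      rw [List.map_cons, List.cons.injEq] at hmap
      refine ⟨⟨⟨g, hg⟩, hmap.1⟩, ?_⟩
      show g • s = t
      rw [← Finset.toList_toFinset s, ← Finset.toList_toFinset t, ← hmap.2]
      ext r
      simp [Finset.mem_smul_finset]
  have h := GolayTables.card_inf_stabilizer K s
  rw [horb, Set.ncard_coe_finset, Finset.card_powersetCard, Finset.card_erase_of_mem (Finset.mem_univ _),
    Finset.card_univ, card_golayPt, hcard] at h
  exact h

/-- The stabiliser of a pair of points has order 887040. -/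
theorem natCard_pairStab (s : Finset GolayPt) (hs : s.card = 2) :
    Nat.card (MulAction.stabilizer M24 s) = 887040 := by
  classical
  have horb : MulAction.orbit M24 s = ↑((Finset.univ : Finset GolayPt).powersetCard 2) := by
    ext t
    rw [Finset.mem_coe, Finset.mem_powersetCard]
    constructor
    · rintro ⟨g, rfl⟩
      refine ⟨Finset.subset_univ _, ?_⟩
      show ((g : Equiv.Perm GolayPt) • s).card = 2
      rw [Finset.card_smul_finset, hs]
    · rintro ⟨-, ht⟩
      obtain ⟨g, hg, hmap⟩ := exists_map_eq (L := s.toList) (L' := t.toList) s.nodup_toList t.nodup_toList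
        (by simp [hs, ht]) (by simp [hs])
      refine ⟨⟨g, hg⟩, ?_⟩
      show g • s = t
      rw [← Finset.toList_toFinset s, ← Finset.toList_toFinset t, ← hmap]
      ext r
      simp [Finset.mem_smul_finset]
  have h := natCard_orbit_mul (G := M24) s
  rw [horb, Set.ncard_coe_finset, Finset.card_powersetCard, Finset.card_univ, card_golayPt, natCard_M24,
    show Nat.choose 24 2 = 276 by decide] at h
  omega

/-- The stabiliser of an octad and a point of it has order at most 40320. -/
theorem natCard_octadPoint_le {o : Finset GolayPt} (ho : o ∈ octads) {x : GolayPt} (hx : x ∈ o) :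
    Nat.card ↥(MulAction.stabilizer M24 o ⊓ MulAction.stabilizer M24 x) ≤ 40320 := by
  classical
  set K := MulAction.stabilizer M24 o with hK
  have hsub : (o : Set GolayPt) ⊆ MulAction.orbit K x := by
    intro y hy
    have ext' : ∀ z ∈ o, ∃ L : List GolayPt, (z :: L).Nodup ∧ L.length = 4 ∧ ∀ p ∈ z :: L, p ∈ o := by
      intro z hz
      obtain ⟨L, h1, h2, h3⟩ := exists_list_subset (n := 4) (s := o.erase z)
        (by rw [Finset.card_erase_of_mem hz, card_of_mem_octads ho]; norm_num)
      exact ⟨L, List.nodup_cons.mpr ⟨fun h => (Finset.mem_erase.mp (h3 z h)).1 rfl, h1⟩, h2,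
        fun p hp => (List.mem_cons.mp hp).elim (fun e => e ▸ hz) fun h => (Finset.mem_erase.mp (h3 p h)).2⟩
    obtain ⟨L, h1, h2, h3⟩ := ext' x hx
    obtain ⟨L', h1', h2', h3'⟩ := ext' y hy
    obtain ⟨g, hg, hmap⟩ := exists_map_eq h1 h1' (by simp [h2, h2']) (by simp [h2])
    have hgo : g • o = o := by
      refine octad_eq_of_five_le (smul_mem_octads hg ho) ho
        (le_trans ?_ (Finset.card_le_card (s := (y :: L').toFinset) fun p hp => ?_))
      · rw [List.toFinset_card_of_nodup h1', List.length_cons, h2']
      · rw [List.mem_toFinset] at hp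
        refine Finset.mem_inter.mpr ⟨?_, h3' p hp⟩
        rw [← hmap, List.mem_map] at hp
        obtain ⟨q, hq, rfl⟩ := hp
        exact Finset.smul_mem_smul_finset (a := g) (h3 q hq)
    rw [List.map_cons, List.cons.injEq] at hmap
    exact ⟨⟨⟨g, hg⟩, hgo⟩, hmap.1⟩
  have h8 := Set.ncard_le_ncard hsub (Set.toFinite _)
  rw [Set.ncard_coe_finset, card_of_mem_octads ho] at h8
  have h := GolayTables.card_inf_stabilizer K x
  rw [natCard_stabilizer_octad ho] at h
  have := Nat.mul_le_mul_right (Nat.card ↥(K ⊓ MulAction.stabilizer M24 x)) h8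
  omega

/-- A setwise invariant set meets the moved points of an element of prime order in a multiple of it. -/
theorem card_modEq_fixed {α : Type*} [DecidableEq α] [Fintype α] {p : ℕ} [hp : Fact p.Prime] {σ : Equiv.Perm α}
    (hσ : σ ^ p = 1) {X : Finset α} (hX : ∀ a, σ a ∈ X ↔ a ∈ X) :
    (X.filter fun a => σ a = a).card ≡ X.card [MOD p] := by
  let τ : Equiv.Perm {a // a ∈ X} := σ.subtypePerm hX
  have hτ : τ ^ p ^ 1 = 1 := by
    rw [pow_one]
    ext a
    simp [τ, hσ]
  have h := Equiv.Perm.card_compl_support_modEq hτ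
  rw [Fintype.card_coe] at h
  convert h using 1
  refine Finset.card_bij (fun a ha => ⟨a, (Finset.mem_filter.mp ha).1⟩) (fun a ha => ?_)
    (fun a _ b _ e => congrArg Subtype.val e) (fun b hb => ⟨b.1, ?_, rfl⟩)
  · rw [Finset.mem_compl, Equiv.Perm.notMem_support]
    exact Subtype.ext (Finset.mem_filter.mp ha).2
  · rw [Finset.mem_compl, Equiv.Perm.notMem_support] at hb
    exact Finset.mem_filter.mpr ⟨b.2, congrArg Subtype.val hb⟩

end CfsgLib.GolayIndex
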