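import Cfsg.Agent.Lib.GolayIndex.Basic
import Cfsg.Agent.Lib.GolayIndex.Data
import Cfsg.Agent.Lib.Golay.Mathieu
import Cfsg.Agent.S5604

/-!
# Subgroups of order 887040 in `M24` and of orders 36960, 7920, 2112 in a two-point stabiliser
-/

set_option autoImplicit false
set_option maxRecDepth 100000
set_option Elab.async false

namespace CfsgLib.GolayIndex

open Cfsg CfsgLib.Golay CfsgLib.Schur.GolaySearch
open scoped Pointwise

/-- The stabiliser of the extra point and zero. -/
def twoStab : Subgroup M24 :=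
  MulAction.stabilizer M24 (none : GolayPt) ⊓ MulAction.stabilizer M24 (some 0 : GolayPt)

theorem twoStab_fix {g : M24} (hg : g ∈ twoStab) :
    (g : Equiv.Perm GolayPt) none = none ∧ (g : Equiv.Perm GolayPt) (some 0) = some 0 := ⟨hg.1, hg.2⟩

theorem natCard_twoStab : Nat.card twoStab = 443520 := by
  classical
  have hs : MulAction.stabilizer M24 (some 0 : GolayPt) =
      MulAction.stabilizer M24 ({some 0} : Finset GolayPt) := by
    ext g
    simp only [MulAction.mem_stabilizer_iff, Finset.smul_finset_singleton, Finset.singleton_inj]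
  have h := natCard_pointSet none {some 0} (by simp) (by simp)
  rw [Finset.card_singleton, Nat.choose_one_right, ← hs] at h
  show Nat.card ↥(MulAction.stabilizer M24 (none : GolayPt) ⊓ MulAction.stabilizer M24 (some 0 : GolayPt)) = _
  omega

/-! ### Counting normalisers against a list -/

/-- The normaliser of a subgroup of prime order inside `L`, against a candidate list. -/
theorem normalizer_against (L : Subgroup M24) {p : ℕ} [hp : Fact p.Prime] (x : L) (hx : orderOf x = p)
    (h2 : ¬ p ^ 2 ∣ Nat.card L) (cands : List (List ℕ))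
    (hc : ∀ σ : L, ∀ k, 1 ≤ k → k < p → σ * x = x ^ k * σ → GolayTables.img (σ : M24) ∈ cands) :
    ∃ m, p ∣ m ∧ m ∣ Nat.card L ∧ m ≤ cands.length ∧ Nat.card L / m % p = 1 ∧
      (m = cands.length → ∀ l ∈ cands, ∃ g ∈ L, GolayTables.img g = l) ∧
      (2 ∣ m → ∃ l ∈ cands, comp l l = List.range 24 ∧ l ≠ List.range 24) := by
  classical
  set P := Subgroup.zpowers x with hP
  set N := Subgroup.normalizer (P : Set L) with hN
  have hmem : ∀ n : N, GolayTables.img ((n : L) : M24) ∈ cands := by
    rintro ⟨n, hn⟩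
    obtain ⟨k, hk, he⟩ := Cfsg.Agent.S5604.mem_normalizer_zpowers.mp hn
    rw [hx] at hk
    refine hc n k ?_ hk (by rw [← he]; group)
    by_contra hk0
    obtain rfl : k = 0 := by omega
    rw [pow_zero, conj_eq_one_iff] at he
    rw [he, orderOf_one] at hx
    exact hp.out.one_lt.ne hx
  have hPcard : Nat.card P = p := by rw [hP, Nat.card_zpowers, hx]
  have hpL : p ∣ Nat.card L := hx ▸ orderOf_dvd_natCard x
  have hfac : (Nat.card L).factorization p = 1 :=
    factorization_eq rfl Nat.card_pos.ne' (by rwa [pow_one]) h2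
  let S : Sylow p L := Sylow.ofCard P (by rw [hPcard, hfac, pow_one])
  have hidx : N.index % p = 1 := by
    have h := card_sylow_modEq_one p L
    rw [Sylow.card_eq_index_normalizer S] at h
    change N.index ≡ 1 [MOD p] at h
    rw [(h : N.index % p = 1 % p)]
    exact Nat.one_mod_eq_one.mpr hp.out.ne_one
  have hinj : Function.Injective fun n : N => (⟨GolayTables.img ((n : L) : M24), List.mem_toFinset.mpr (hmem n)⟩ :
      {l // l ∈ cands.toFinset}) := fun a b e =>
    Subtype.ext (Subtype.ext (GolayTables.img_injective (congrArg Subtype.val e)))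
  have hle : Nat.card N ≤ cands.toFinset.card := by
    have h := Nat.card_le_card_of_injective _ hinj
    rwa [Nat.card_eq_fintype_card (α := {l // l ∈ cands.toFinset}), Fintype.card_coe] at h
  refine ⟨Nat.card N, hPcard ▸ Subgroup.card_dvd_of_le Subgroup.le_normalizer, Subgroup.card_subgroup_dvd_card N,
    hle.trans (List.toFinset_card_le _), ?_, fun heq l hl => ?_, fun h2m => ?_⟩
  · rw [← Subgroup.index_mul_card N, Nat.mul_div_cancel _ Nat.card_pos, hidx]
  · have hb := (Nat.bijective_iff_injective_and_card _).mpr ⟨hinj, le_antisymm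
      (Nat.card_le_card_of_injective _ hinj) (by
        rw [Nat.card_eq_fintype_card (α := {l // l ∈ cands.toFinset}), Fintype.card_coe, heq]
        exact List.toFinset_card_le _)⟩
    obtain ⟨n, hn⟩ := hb.2 ⟨l, List.mem_toFinset.mpr hl⟩
    exact ⟨_, (n : L).2, congrArg Subtype.val hn⟩
  · haveI : Fact (Nat.Prime 2) := ⟨Nat.prime_two⟩
    obtain ⟨t, ht⟩ := exists_prime_orderOf_dvd_card' 2 h2m
    refine ⟨_, hmem t, ?_, fun e => ?_⟩
    · have h : ((t : L) : M24) * ((t : L) : M24) = 1 := by
        have := pow_orderOf_eq_one t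
        rw [ht, pow_two] at this
        exact congrArg (fun u : N => ((u : L) : M24)) this
      rw [← GolayTables.img_mul, h, GolayTables.img_one]
    · rw [← GolayTables.img_one] at e
      have h1 : t = 1 := Subtype.ext (Subtype.ext (GolayTables.img_injective e))
      rw [h1, orderOf_one] at ht
      omega

/-! ### Elements of order seven -/

theorem exists_seven_conj (x : M24) (hx : orderOf x = 7) : ∃ (k : M24) (z : Equiv.Perm GolayPt) (hz : z ∈ M24)
    (i : ℕ), toList z = Seven.sevenL ∧ orderOf z = 7 ∧ i < 7 ∧ i ≠ 0 ∧ x = k * ⟨z, hz⟩ ^ i * k⁻¹ := by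
  obtain ⟨z, hzm, hz⟩ := exists_perm Seven.sevenL_facts.1
  obtain ⟨k, hk⟩ := Cfsg.Agent.S5604.exists_conj_seven hz hzm (Subgroup.zpowers x)
    (by rw [Nat.card_zpowers, hx])
  have hzo : orderOf (k * ⟨z, hzm⟩ * k⁻¹ : M24) = 7 := by rw [← Nat.card_zpowers, ← hk, Nat.card_zpowers, hx]
  have hmem : x ∈ Subgroup.zpowers (k * ⟨z, hzm⟩ * k⁻¹) := hk ▸ Subgroup.mem_zpowers x
  classical
  rw [(isOfFinOrder_of_finite _).mem_zpowers_iff_mem_range_orderOf, Finset.mem_image, hzo] at hmem
  obtain ⟨i, hi, he⟩ := hmem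
  rw [conj_pow] at he
  refine ⟨k, z, hzm, i, hz, ?_, Finset.mem_range.mp hi, ?_, he.symm⟩
  · rw [← show orderOf (⟨z, hzm⟩ : M24) = orderOf z from (Subgroup.orderOf_coe _).symm,
      ← hzo, show k * ⟨z, hzm⟩ * k⁻¹ = MulAut.conj k ⟨z, hzm⟩ from rfl, MulEquiv.orderOf_eq]
  · rintro rfl
    rw [pow_zero, mul_one, mul_inv_cancel] at he
    rw [← he, orderOf_one] at hx
    omega

/-- An element of order seven fixes at most three points. -/
theorem card_fixed_seven (x : M24) (hx : orderOf x = 7) :
    (Finset.univ.filter fun p => (x : Equiv.Perm GolayPt) p = p).card ≤ 3 := by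
  obtain ⟨k, z, hz, i, hzl, -, hi, hi0, rfl⟩ := exists_seven_conj x hx
  refine le_trans (Finset.card_le_card_of_injOn (fun p => (idx ((k : Equiv.Perm GolayPt).symm p)).val)
    (t := Seven.sevenFix.toFinset) (fun p hp => ?_) fun p _ q _ e => ?_) (List.toFinset_card_le _)
  · rw [Finset.mem_coe, Finset.mem_filter] at hp
    rw [Finset.mem_coe, List.mem_toFinset]
    have h := Seven.sevenFix_spec
    simp only [List.all_eq_true, List.mem_range, Bool.or_eq_true, beq_iff_eq, Bool.not_eq_true',
      List.contains_iff_mem, beq_eq_false_iff_ne] at h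
    set q := (k : Equiv.Perm GolayPt).symm p with hq
    have hfix : (z ^ i) q = q := by
      have h' := hp.2
      have hkk : (k : Equiv.Perm GolayPt) q = p := (k : Equiv.Perm GolayPt).apply_symm_apply p
      apply (k : Equiv.Perm GolayPt).injective
      rw [hkk]
      exact h'
    rcases (h i hi).resolve_left hi0 (idx q).val (idx q).isLt with h3 | h3
    · exact absurd (by rw [← hzl, ← Seven.toList_pow, toList_getD, hfix]) h3
    · exact h3
  · exact (k : Equiv.Perm GolayPt).symm.injective (idx_injective (Fin.ext e))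

/-- No set of 11, 12 or 13 points is invariant under an element of order seven. -/
theorem not_invariant_seven (x : M24) (hx : orderOf x = 7) (X : Finset GolayPt) (hX : ∀ p, x • p ∈ X ↔ p ∈ X)
    (h1 : 11 ≤ X.card) (h2 : X.card ≤ 13) : False := by
  haveI : Fact (Nat.Prime 7) := ⟨by norm_num⟩
  have hpow : (x : Equiv.Perm GolayPt) ^ 7 = 1 := by
    rw [← SubgroupClass.coe_pow, ← hx, pow_orderOf_eq_one, OneMemClass.coe_one]
  have h := card_modEq_fixed (σ := (x : Equiv.Perm GolayPt)) hpow hX
  have h3 : (X.filter fun p => (x : Equiv.Perm GolayPt) p = p).card ≤ 3 :=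
    (Finset.card_le_card (Finset.filter_subset_filter _ (Finset.subset_univ X))).trans (card_fixed_seven x hx)
  unfold Nat.ModEq at h
  omega

/-! ### Order 36960 -/

theorem sevenFix_pairs : (Seven.sevenFix.all fun j => Seven.sevenFix.all fun k => Nat.beq j k ||
    (let F := Seven.normList.filter fun l => Nat.beq (l.getD j 0) j && Nat.beq (l.getD k 0) k
     Nat.ble F.length 21 && F.all fun l => !(comp l l == List.range 24) || l == List.range 24)) = true := by
  decide +kernel

theorem no_order_36960 (L : Subgroup M24) (hL : L ≤ twoStab) : Nat.card L ≠ 36960 := by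
  intro hcard
  haveI : Fact (Nat.Prime 7) := ⟨by norm_num⟩
  obtain ⟨x, hx⟩ := exists_prime_orderOf_dvd_card' (G := L) 7 (by rw [hcard]; norm_num)
  obtain ⟨k, z, hz, i, hzl, hzo, hi, hi0, hxe⟩ := exists_seven_conj (x : M24) (by rw [Subgroup.orderOf_coe, hx])
  -- the two fixed positions
  have hfixed : ∀ p : GolayPt, (∀ g ∈ L, g • p = p) →
      (idx ((k : Equiv.Perm GolayPt).symm p)).val ∈ Seven.sevenFix := by
    intro p hp
    have h := Seven.sevenFix_spec
    simp only [List.all_eq_true, List.mem_range, Bool.or_eq_true, beq_iff_eq, Bool.not_eq_true',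
      List.contains_iff_mem, beq_eq_false_iff_ne] at h
    set q := (k : Equiv.Perm GolayPt).symm p with hq
    have hfix : (z ^ i) q = q := by
      have hkk : (k : Equiv.Perm GolayPt) q = p := (k : Equiv.Perm GolayPt).apply_symm_apply p
      apply (k : Equiv.Perm GolayPt).injective
      rw [hkk]
      have h' := hp (x : M24) x.2
      rw [hxe] at h'
      exact h'
    rcases (h i hi).resolve_left hi0 (idx q).val (idx q).isLt with h3 | h3
    · exact absurd (by rw [← hzl, ← Seven.toList_pow, toList_getD, hfix]) h3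
    · exact h3
  set jn := (idx ((k : Equiv.Perm GolayPt).symm none)).val with hjn
  set jz := (idx ((k : Equiv.Perm GolayPt).symm (some 0))).val with hjz
  have hn' : jn ∈ Seven.sevenFix := hfixed none fun g hg => (twoStab_fix (hL hg)).1
  have hz' : jz ∈ Seven.sevenFix := hfixed (some 0) fun g hg => (twoStab_fix (hL hg)).2
  have hne : jn ≠ jz := fun e =>
    Option.some_ne_none (0 : ZMod 23) ((k : Equiv.Perm GolayPt).symm.injective (idx_injective (Fin.ext e))).symm
  have h := sevenFix_pairs
  simp only [List.all_eq_true, Bool.or_eq_true, Bool.and_eq_true] at h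
  obtain ⟨hlen, hinv⟩ := (h jn hn' jz hz').resolve_left fun e => hne (Nat.eq_of_beq_eq_true e)
  set F := Seven.normList.filter fun l => Nat.beq (l.getD jn 0) jn && Nat.beq (l.getD jz 0) jz with hF
  -- the conjugated candidate list
  let kl := GolayTables.img k
  let kl' := GolayTables.img k⁻¹
  obtain ⟨m, hm7, hmd, hml, hmod, -, hm2⟩ := normalizer_against L x hx (by rw [hcard]; norm_num)
    (F.map fun l => comp (comp kl l) kl') (fun σ j hj hj' he => by
      refine List.mem_map.mpr ⟨GolayTables.img (k⁻¹ * (σ : M24) * k), ?_, ?_⟩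
      · rw [hF, List.mem_filter]
        refine ⟨?_, ?_⟩
        · -- normalises the fixed element
          rw [Cfsg.Agent.S5604.mem_normList]
          obtain ⟨w, hw, hw'⟩ : ∃ w < 7, (k⁻¹ * (σ : M24) * k) * ⟨z, hz⟩ * (k⁻¹ * (σ : M24) * k)⁻¹ =
              ⟨z, hz⟩ ^ w := by
            have hord : orderOf (⟨z, hz⟩ : M24) = 7 := by rw [← hzo]; exact (Subgroup.orderOf_coe _).symm
            have hN : k⁻¹ * (σ : M24) * k ∈ Subgroup.normalizer (Subgroup.zpowers (⟨z, hz⟩ : M24) : Set M24) := by
              have hgen : Subgroup.zpowers (⟨z, hz⟩ : M24) = Subgroup.zpowers ((⟨z, hz⟩ : M24) ^ i) := by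
                refine (Subgroup.eq_of_le_of_card_ge (Subgroup.zpowers_le.mpr (Subgroup.npow_mem_zpowers _ i))
                  ?_).symm
                rw [Nat.card_zpowers, Nat.card_zpowers, hord, orderOf_pow' _ hi0, hord,
                  show Nat.gcd 7 i = 1 from (Nat.Prime.coprime_iff_not_dvd (by norm_num)).mpr
                    (fun hd => absurd (Nat.le_of_dvd (Nat.pos_of_ne_zero hi0) hd) (by omega)), Nat.div_one]
              rw [hgen, Cfsg.Agent.S5604.mem_normalizer_zpowers]
              refine ⟨j, ?_, ?_⟩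
              · rw [orderOf_pow' _ hi0, hord, show Nat.gcd 7 i = 1 from
                  (Nat.Prime.coprime_iff_not_dvd (by norm_num)).mpr
                    (fun hd => absurd (Nat.le_of_dvd (Nat.pos_of_ne_zero hi0) hd) (by omega)), Nat.div_one]
                exact hj'
              · have he' := congrArg (fun u : L => (u : M24)) he
                simp only [Subgroup.coe_mul, SubgroupClass.coe_pow, hxe, conj_pow] at he'
                calc k⁻¹ * (σ : M24) * k * (⟨z, hz⟩ : M24) ^ i * (k⁻¹ * (σ : M24) * k)⁻¹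
                    = k⁻¹ * ((σ : M24) * (k * (⟨z, hz⟩ : M24) ^ i * k⁻¹)) * (σ : M24)⁻¹ * k := by group
                  _ = k⁻¹ * ((k * ((⟨z, hz⟩ : M24) ^ i) ^ j * k⁻¹) * (σ : M24)) * (σ : M24)⁻¹ * k := by rw [he']
                  _ = ((⟨z, hz⟩ : M24) ^ i) ^ j := by group
            obtain ⟨w, hw, hw'⟩ := Cfsg.Agent.S5604.mem_normalizer_zpowers.mp hN
            exact ⟨w, hord ▸ hw, hw'⟩
          have hw0 : w ≠ 0 := by
            rintro rfl
            rw [pow_zero, conj_eq_one_iff] at hw'
            have : z = 1 := congrArg Subtype.val hw'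
            rw [this, orderOf_one] at hzo
            omega
          exact ⟨w, hw, hw0, (Cfsg.Agent.S5604.mem_searchK hzl hw hw0).mp
            ⟨(k⁻¹ * (σ : M24) * k).2, congrArg Subtype.val hw'⟩⟩
        · have hq : ∀ p : GolayPt, (σ : M24) • p = p →
              Nat.beq ((GolayTables.img (k⁻¹ * (σ : M24) * k)).getD (idx ((k : Equiv.Perm GolayPt).symm p)).val 0)
                (idx ((k : Equiv.Perm GolayPt).symm p)).val = true := by
            intro p hp
            rw [GolayTables.img, toList_getD]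
            have e : ((k⁻¹ * (σ : M24) * k : M24) : Equiv.Perm GolayPt) ((k : Equiv.Perm GolayPt).symm p) =
                (k : Equiv.Perm GolayPt).symm p := by
              show (k : Equiv.Perm GolayPt).symm (((σ : M24) : Equiv.Perm GolayPt)
                ((k : Equiv.Perm GolayPt) ((k : Equiv.Perm GolayPt).symm p))) = _
              rw [Equiv.apply_symm_apply, show ((σ : M24) : Equiv.Perm GolayPt) p = p from hp]
            rw [e]
            exact Nat.beq_refl _
          rw [Bool.and_eq_true]
          exact ⟨hq none (twoStab_fix (hL σ.2)).1, hq (some 0) (twoStab_fix (hL σ.2)).2⟩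
      · simp only [kl, kl', ← GolayTables.img_mul]
        congr 1
        group)
  rw [List.length_map] at hml
  rw [hcard] at hmd hmod
  have hml' := hml.trans (Nat.le_of_ble_eq_true hlen)
  have hcases : m = 7 ∨ m = 14 ∨ m = 21 := by
    obtain ⟨e, rfl⟩ := hm7
    have : 0 < 7 * e := Nat.pos_of_dvd_of_pos hmd (by norm_num)
    omega
  rcases hcases with rfl | rfl | rfl
  · norm_num at hmod
  · obtain ⟨l, hl, hll, hl1⟩ := hm2 (by norm_num)
    obtain ⟨l', hl', rfl⟩ := List.mem_map.mp hl
    have hg : ∃ g : M24, GolayTables.img g = l' := by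
      obtain ⟨w, hw, hw0, hs⟩ := Cfsg.Agent.S5604.mem_normList.mp (List.mem_filter.mp hl').1
      obtain ⟨σ, hσ, hσl⟩ := exists_perm (Cfsg.Agent.S5604.searchK_gen hw hw0 l' hs)
      exact ⟨⟨σ, hσ⟩, hσl⟩
    obtain ⟨g, rfl⟩ := hg
    simp only [kl, kl', ← GolayTables.img_mul, ← GolayTables.img_one] at hll hl1
    have hgg : g * g = 1 := by
      have h' := GolayTables.img_injective hll
      calc g * g = k⁻¹ * (k * g * k⁻¹ * (k * g * k⁻¹)) * k := by group
        _ = 1 := by rw [h']; group
    rcases hinv _ hl' with e | e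
    · rw [← GolayTables.img_mul, hgg, GolayTables.img_one] at e
      simp at e
    · rw [beq_iff_eq, ← GolayTables.img_one] at e
      rw [GolayTables.img_injective e, mul_one, mul_inv_cancel] at hl1
      exact hl1 rfl
  · norm_num at hmod

/-! ### Orbits of groups containing the element of order eleven -/

theorem eleven_facts : elevenL = doublePows.getD 1 [] ∧
    (∀ p : GolayPt, p = none ∨ p = some 0 ∨
      ((List.range 11).any fun n => Nat.beq ((doublePows.getD n []).getD 1 0) (idx p).val) = true ∨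
      ((List.range 11).any fun n => Nat.beq ((doublePows.getD n []).getD 5 0) (idx p).val) = true) ∧
    (((Finset.univ : Finset GolayPt).filter fun p =>
      ((List.range 11).any fun n => Nat.beq ((doublePows.getD n []).getD 1 0) (idx p).val) = true).card = 11) ∧
    (((Finset.univ : Finset GolayPt).filter fun p =>
      ((List.range 11).any fun n => Nat.beq ((doublePows.getD n []).getD 5 0) (idx p).val) = true).card = 11) := by
  decide +kernel

/-- The orbit of the point one under a group containing the element of order eleven and one of order seven. -/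
theorem orbit_one (L : Subgroup M24) (ha : ∃ g ∈ L, GolayTables.img g = elevenL) (h7 : 7 ∣ Nat.card L) :
    (22 = (MulAction.orbit L (some 1 : GolayPt)).ncard ∧
        ∀ g ∈ L, g • ({none, some 0} : Finset GolayPt) = {none, some 0}) ∨
      (23 = (MulAction.orbit L (some 1 : GolayPt)).ncard) ∨
      (24 = (MulAction.orbit L (some 1 : GolayPt)).ncard ∧
        (none : GolayPt) ∈ MulAction.orbit L (some 1 : GolayPt)) := by
  classical
  haveI : Fact (Nat.Prime 7) := ⟨by norm_num⟩
  obtain ⟨a, haL, hal⟩ := ha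
  obtain ⟨hel, hcover, hA, hB⟩ := eleven_facts
  obtain ⟨y, hy⟩ := exists_prime_orderOf_dvd_card' (G := L) 7 h7
  set X := (Set.toFinite (MulAction.orbit L (some 1 : GolayPt))).toFinset with hXdef
  have hXmem : ∀ p, p ∈ X ↔ p ∈ MulAction.orbit L (some 1 : GolayPt) := fun p => Set.Finite.mem_toFinset _
  have hXinv : ∀ g ∈ L, ∀ p, g • p ∈ X ↔ p ∈ X := by
    intro g hg p
    rw [hXmem, hXmem]
    constructor
    · rintro ⟨u, hu⟩
      refine ⟨⟨g, hg⟩⁻¹ * u, ?_⟩
      show (g⁻¹ * (u : M24)) • (some 1 : GolayPt) = p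
      rw [mul_smul, show (u : M24) • (some 1 : GolayPt) = g • p from hu, inv_smul_smul]
    · rintro ⟨u, rfl⟩
      refine ⟨⟨g, hg⟩ * u, ?_⟩
      show (g * (u : M24)) • (some 1 : GolayPt) = g • ((u : M24) • (some 1 : GolayPt))
      rw [mul_smul]
  have hncard : (MulAction.orbit L (some 1 : GolayPt)).ncard = X.card := by
    rw [← Set.Finite.coe_toFinset (Set.toFinite (MulAction.orbit L (some 1 : GolayPt))), Set.ncard_coe_finset]
  have hae : (a : Equiv.Perm GolayPt) = doublePerm := by
    apply toList_injective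
    rw [show toList (a : Equiv.Perm GolayPt) = elevenL from hal, hel]
    have := toList_doublePerm_pow ⟨1, by norm_num⟩
    rw [pow_one] at this
    exact this.symm
  -- constant on the two cycles
  have hcyc : ∀ (r : GolayPt) (n : ℕ), (doublePerm ^ n) r ∈ X ↔ r ∈ X := by
    intro r n
    have := hXinv (a ^ n) (pow_mem haL n) r
    rwa [show (a ^ n) • r = (doublePerm ^ n) r by
      show ((a ^ n : M24) : Equiv.Perm GolayPt) r = _
      rw [SubgroupClass.coe_pow, hae]] at this
  have hclass : ∀ (r p : GolayPt), ((List.range 11).any fun n =>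
      Nat.beq ((doublePows.getD n []).getD (idx r).val 0) (idx p).val) = true → (p ∈ X ↔ r ∈ X) := by
    intro r p h
    rw [List.any_eq_true] at h
    obtain ⟨n, hn, hnp⟩ := h
    rw [List.mem_range] at hn
    rw [← hcyc r n]
    suffices (doublePerm ^ n) r = p by rw [this]
    refine idx_injective (Fin.ext ?_)
    rw [← toList_getD, toList_doublePerm_pow ⟨n, hn⟩]
    exact Nat.eq_of_beq_eq_true hnp
  set A := (Finset.univ : Finset GolayPt).filter fun p =>
      ((List.range 11).any fun n => Nat.beq ((doublePows.getD n []).getD 1 0) (idx p).val) = true with hAdef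
  set B := (Finset.univ : Finset GolayPt).filter fun p =>
      ((List.range 11).any fun n => Nat.beq ((doublePows.getD n []).getD 5 0) (idx p).val) = true with hBdef
  have h1 : (some 1 : GolayPt) ∈ X := (hXmem _).mpr (MulAction.mem_orbit_self _)
  have hAX : A ⊆ X := fun p hp =>
    (hclass (some 1) p (Finset.mem_filter.mp hp).2).mpr h1
  have hB5 : ∀ p ∈ B, (p ∈ X ↔ (some 5 : GolayPt) ∈ X) := fun p hp => hclass (some 5) p (Finset.mem_filter.mp hp).2
  set S : Finset GolayPt :=
    A ∪ (if none ∈ X then {none} else ∅) ∪ (if some 0 ∈ X then {some 0} else ∅) ∪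
      (if some 5 ∈ X then B else ∅) with hSdef
  have hXS : X = S := by
    ext p
    simp only [hSdef, Finset.mem_union]
    constructor
    · intro hp
      rcases hcover p with rfl | rfl | h | h
      · left; left; right; rw [if_pos hp]; simp
      · left; right; rw [if_pos hp]; simp
      · left; left; left; exact Finset.mem_filter.mpr ⟨Finset.mem_univ _, h⟩
      · right
        have hpB : p ∈ B := Finset.mem_filter.mpr ⟨Finset.mem_univ _, h⟩
        rw [if_pos ((hB5 p hpB).mp hp)]
        exact hpB
    · rintro (((h | h) | h) | h)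
      · exact hAX h
      all_goals split_ifs at h with hc
      · rw [Finset.mem_singleton] at h; rw [h]; exact hc
      · exact absurd h (Finset.notMem_empty _)
      · rw [Finset.mem_singleton] at h; rw [h]; exact hc
      · exact absurd h (Finset.notMem_empty _)
      · exact (hB5 p h).mpr hc
      · exact absurd h (Finset.notMem_empty _)
  have hnot : 13 < X.card := by
    by_contra hle
    exact not_invariant_seven (y : M24) (by rw [Subgroup.orderOf_coe, hy]) X (hXinv _ y.2)
      (hA ▸ Finset.card_le_card hAX) (by omega)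
  have hsizes : ∀ b₁ b₂ b₃ : Bool,
      (A ∪ (if b₁ then {none} else ∅) ∪ (if b₂ then {some 0} else ∅) ∪ (if b₃ then B else ∅)).card =
        11 + b₁.toNat + b₂.toNat + 11 * b₃.toNat ∧
      (b₁ = false → b₂ = false → b₃ = true →
        (A ∪ (if b₁ then {none} else ∅) ∪ (if b₂ then {some 0} else ∅) ∪ (if b₃ then B else ∅))ᶜ =
          {none, some 0}) := by
    rw [hAdef, hBdef]
    decide +kernel
  obtain ⟨hsz, hcomp⟩ := hsizes (decide (none ∈ X)) (decide ((some 0 : GolayPt) ∈ X)) (decide ((some 5 : GolayPt) ∈ X))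
  simp only [decide_eq_true_eq, decide_eq_false_iff_not, ← hSdef, ← hXS] at hsz hcomp
  rw [hncard]
  by_cases c5 : (some 5 : GolayPt) ∈ X
  · by_cases cn : none ∈ X <;> by_cases c0 : (some 0 : GolayPt) ∈ X <;>
      simp [cn, c0, c5] at hsz hcomp
    · right; right; exact ⟨hsz.symm, (hXmem _).mp cn⟩
    · right; left; exact hsz.symm
    · right; left; exact hsz.symm
    · left
      refine ⟨hsz.symm, fun g hg => ?_⟩
      rw [← hcomp]
      have hXfix : (g : Equiv.Perm GolayPt) • X = X := by
        ext o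
        rw [← Finset.smul_mem_smul_finset_iff (g : Equiv.Perm GolayPt)⁻¹, inv_smul_smul]
        exact hXinv g⁻¹ (inv_mem hg) o
      show (g : Equiv.Perm GolayPt) • Xᶜ = Xᶜ
      rw [Golay.smul_compl, hXfix]
  · exfalso
    by_cases cn : none ∈ X <;> by_cases c0 : (some 0 : GolayPt) ∈ X <;>
      simp [cn, c0, c5] at hsz <;> omega

theorem main276 (H : Subgroup M24) (hcard : Nat.card H = 887040)
    (ha : ∃ g ∈ H, GolayTables.img g = elevenL) :
    H = MulAction.stabilizer M24 ({none, some 0} : Finset GolayPt) := by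
  classical
  rcases orbit_one H ha (by rw [hcard]; norm_num) with ⟨-, hfix⟩ | h23 | ⟨h24, hnone⟩
  · refine Subgroup.eq_of_le_of_card_ge (fun g hg => hfix g hg) ?_
    rw [hcard, natCard_pairStab _ (by decide)]
  · exfalso
    have h := GolayTables.card_inf_stabilizer H (some 1 : GolayPt)
    rw [← h23, hcard] at h
    omega
  · exfalso
    set L := H ⊓ MulAction.stabilizer M24 (none : GolayPt) with hLdef
    have hcardL : Nat.card L = 36960 := by
      have h := GolayTables.card_inf_stabilizer H (none : GolayPt)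
      rw [MulAction.orbit_eq_iff.mpr hnone, ← h24, hcard] at h
      show Nat.card ↥(H ⊓ MulAction.stabilizer M24 (none : GolayPt)) = _
      omega
    obtain ⟨a, haH, hal⟩ := ha
    have haL : a ∈ L := by
      refine ⟨haH, ?_⟩
      show (a : Equiv.Perm GolayPt) none = none
      refine idx_injective (Fin.ext ?_)
      rw [← toList_getD, show toList (a : Equiv.Perm GolayPt) = elevenL from hal]
      decide +kernel
    have hnot : (none : GolayPt) ∉ MulAction.orbit L (some 1 : GolayPt) := by
      rintro ⟨u, hu⟩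
      have h : (u : M24)⁻¹ • (none : GolayPt) = none := MulAction.mem_stabilizer_iff.mp (inv_mem u.2 : _ ∈ L).2
      rw [← show (u : M24) • (some 1 : GolayPt) = none from hu, inv_smul_smul] at h
      exact Option.some_ne_none _ (h.trans hu)
    rcases orbit_one L ⟨a, haL, hal⟩ (by rw [hcardL]; norm_num) with ⟨-, hfix⟩ | h23 | ⟨-, hn⟩
    · refine no_order_36960 L (fun g hg => ?_) hcardL
      have hn : (g : Equiv.Perm GolayPt) none = none := hg.2
      refine ⟨hn, ?_⟩
      have h := hfix g hg
      have hm : (g : Equiv.Perm GolayPt) (some 0) ∈ ({none, some 0} : Finset GolayPt) :=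
        h ▸ Finset.smul_mem_smul_finset (a := (g : Equiv.Perm GolayPt)) (by simp)
      rw [Finset.mem_insert, Finset.mem_singleton] at hm
      rcases hm with e | e
      · exact absurd ((g : Equiv.Perm GolayPt).injective (e.trans hn.symm)) (by simp)
      · exact e
    · have h := GolayTables.card_inf_stabilizer L (some 1 : GolayPt)
      rw [← h23, hcardL] at h
      omega
    · exact hnot hn

/-! ### Orders 7920 and 2112 -/

/-- Candidates normalising the element of order five. -/
def fiveCands : List (List ℕ) :=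
  (List.range 4).flatMap fun j => searchImg (Seven.powL fiveL (j + 1)) 0 fiveStages (List.replicate 24 0)

/-- The candidates for the power 1. -/
def fiveFound0 : List (List ℕ) :=
  [
    [0, 1, 2, 3, 4, 5, 6, 7, 8, 9, 10, 11, 12, 13, 14, 15, 16, 17, 18, 19, 20, 21, 22, 23],
    [0, 1, 6, 18, 13, 5, 16, 11, 9, 2, 7, 17, 4, 3, 20, 21, 8, 22, 12, 15, 19, 14, 10, 23],
    [0, 1, 8, 4, 18, 5, 9, 22, 6, 16, 17, 10, 3, 12, 15, 20, 2, 7, 13, 14, 21, 19, 11, 23],
    [0, 1, 9, 13, 12, 5, 2, 10, 16, 8, 22, 7, 18, 4, 21, 19, 6, 11, 3, 20, 14, 15, 17, 23],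
    [0, 1, 16, 12, 3, 5, 8, 17, 2, 6, 11, 22, 13, 18, 19, 14, 9, 10, 4, 21, 15, 20, 7, 23]]

theorem five_search_0 :
    searchImg (Seven.powL fiveL (0 + 1)) 0 fiveStages (List.replicate 24 0) = fiveFound0 := by
  decide +kernel

/-- The candidates for the power 2. -/
def fiveFound1 : List (List ℕ) :=
  [
    [0, 5, 2, 17, 22, 1, 16, 18, 6, 8, 13, 4, 11, 7, 14, 20, 9, 3, 10, 21, 19, 15, 12, 23],
    [0, 5, 6, 22, 10, 1, 8, 12, 16, 9, 3, 13, 17, 11, 20, 19, 2, 18, 7, 14, 15, 21, 4, 23],
    [0, 5, 8, 7, 11, 1, 2, 13, 9, 6, 12, 18, 10, 22, 15, 21, 16, 4, 17, 19, 14, 20, 3, 23],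
    [0, 5, 9, 11, 17, 1, 6, 3, 2, 16, 4, 12, 7, 10, 21, 14, 8, 13, 22, 15, 20, 19, 18, 23],
    [0, 5, 16, 10, 7, 1, 9, 4, 8, 2, 18, 3, 22, 17, 19, 15, 6, 12, 11, 20, 21, 14, 13, 23]]

theorem five_search_1 :
    searchImg (Seven.powL fiveL (1 + 1)) 0 fiveStages (List.replicate 24 0) = fiveFound1 := by
  decide +kernel

/-- The candidates for the power 3. -/
def fiveFound2 : List (List ℕ) :=
  [
    [0, 5, 2, 17, 11, 1, 8, 13, 9, 16, 18, 12, 22, 10, 14, 21, 6, 3, 7, 20, 15, 19, 4, 23],
    [0, 5, 6, 22, 17, 1, 9, 3, 2, 8, 12, 4, 10, 7, 20, 14, 16, 18, 11, 19, 21, 15, 13, 23],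
    [0, 5, 8, 7, 10, 1, 6, 12, 16, 2, 13, 3, 11, 17, 15, 19, 9, 4, 22, 21, 20, 14, 18, 23],
    [0, 5, 9, 11, 7, 1, 16, 4, 8, 6, 3, 18, 17, 22, 21, 15, 2, 13, 10, 14, 19, 20, 12, 23],
    [0, 5, 16, 10, 22, 1, 2, 18, 6, 9, 4, 13, 7, 11, 19, 20, 8, 12, 17, 15, 14, 21, 3, 23]]

theorem five_search_2 :
    searchImg (Seven.powL fiveL (2 + 1)) 0 fiveStages (List.replicate 24 0) = fiveFound2 := by
  decide +kernel

/-- The candidates for the power 4. -/
def fiveFound3 : List (List ℕ) :=
  [
    [0, 1, 2, 3, 12, 5, 9, 10, 16, 6, 7, 22, 4, 18, 14, 19, 8, 17, 13, 15, 21, 20, 11, 23],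
    [0, 1, 6, 18, 4, 5, 2, 7, 8, 16, 11, 10, 13, 12, 20, 15, 9, 22, 3, 21, 14, 19, 17, 23],
    [0, 1, 8, 4, 3, 5, 16, 17, 2, 9, 22, 11, 18, 13, 15, 14, 6, 7, 12, 20, 19, 21, 10, 23],
    [0, 1, 9, 13, 18, 5, 8, 22, 6, 2, 10, 17, 12, 3, 21, 20, 16, 11, 4, 19, 15, 14, 7, 23],
    [0, 1, 16, 12, 13, 5, 6, 11, 9, 8, 17, 7, 3, 4, 19, 21, 2, 10, 18, 14, 20, 15, 22, 23]]

theorem five_search_3 :
    searchImg (Seven.powL fiveL (3 + 1)) 0 fiveStages (List.replicate 24 0) = fiveFound3 := by
  decide +kernel

theorem fiveCands_eq : fiveCands = fiveFound0 ++ (fiveFound1 ++ (fiveFound2 ++ fiveFound3)) := by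
  rw [fiveCands, show List.range 4 = [0, 1, 2, 3] from rfl]
  simp only [List.flatMap_cons, List.flatMap_nil, List.append_nil, five_search_0, five_search_1,
    five_search_2, five_search_3]

theorem five_checks : Nat.ble fiveCands.length 20 = true ∧ fiveCands.contains fourL = true ∧
    doubleCands.contains fiveL = true ∧ stagesOK fiveL 0 fiveStages = true ∧
    (fiveStages.all fun s => s.2.2 == List.range 24 || (s == ([23], s.2.1, [23])) || (s == ([0], s.2.1, [0]))) = true ∧
    Seven.powL fiveL 5 = List.range 24 ∧ fiveL ≠ List.range 24 ∧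
    Seven.powL (comp elevenL fourL) 7 = List.range 24 ∧ comp elevenL fourL ≠ List.range 24 := by
  rw [fiveCands_eq]
  decide +kernel

theorem eleven_step (L : Subgroup M24) (hL : L ≤ twoStab) (ha : ∃ g ∈ L, GolayTables.img g = elevenL)
    (h2 : ¬ 11 ^ 2 ∣ Nat.card L) : ∃ m, 11 ∣ m ∧ m ∣ Nat.card L ∧ m ≤ 55 ∧ Nat.card L / m % 11 = 1 ∧
      (m = 55 → ∀ l ∈ doubleCands, ∃ g ∈ L, GolayTables.img g = l) := by
  haveI : Fact (Nat.Prime 11) := ⟨by norm_num⟩
  obtain ⟨a, haL, hal⟩ := ha
  have hae : (a : Equiv.Perm GolayPt) = doublePerm := by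
    apply toList_injective
    rw [show toList (a : Equiv.Perm GolayPt) = elevenL from hal, eleven_facts.1]
    have := toList_doublePerm_pow ⟨1, by norm_num⟩
    rw [pow_one] at this
    exact this.symm
  have hord : orderOf (⟨a, haL⟩ : L) = 11 := by
    rw [← Subgroup.orderOf_coe, ← Subgroup.orderOf_coe, hae, orderOf_doublePerm]
  obtain ⟨m, h1, h2', h3, h4, h5, -⟩ := normalizer_against L ⟨a, haL⟩ hord h2 doubleCands (fun σ k hk hk' he => by
    obtain ⟨f1, f2⟩ := twoStab_fix (hL σ.2)
    refine toList_mem_doubleCands (σ : M24).2 f1 f2 hk hk' ?_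
    have he' := congrArg (fun u : L => ((u : M24) : Equiv.Perm GolayPt)) he
    simpa only [Subgroup.coe_mul, SubgroupClass.coe_pow, hae] using he')
  rw [length_doubleCands] at h3 h5
  exact ⟨m, h1, h2', h3, h4, h5⟩

theorem no_order_7920 (L : Subgroup M24) (hL : L ≤ twoStab) (ha : ∃ g ∈ L, GolayTables.img g = elevenL) :
    Nat.card L ≠ 7920 := by
  intro hcard
  obtain ⟨hlen, hfour, hfive, hok, hheads, hb5, hb1, h7, h71⟩ := five_checks
  obtain ⟨m, hm11, hmd, hm55, hmod, hall⟩ := eleven_step L hL ha (by rw [hcard]; norm_num)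
  have hm : m = 55 := by
    obtain ⟨e, rfl⟩ := hm11
    rw [hcard] at hmod
    have : e ≤ 5 := by omega
    interval_cases e <;> simp_all
  obtain ⟨b, hbL, hbl⟩ := hall hm fiveL (List.contains_iff_mem.mp hfive)
  haveI : Fact (Nat.Prime 5) := ⟨by norm_num⟩
  have hord : orderOf (⟨b, hbL⟩ : L) = 5 := by
    refine orderOf_eq_prime ?_ ?_
    · refine Subtype.ext (Subtype.ext (toList_injective ?_))
      rw [SubgroupClass.coe_pow, SubgroupClass.coe_pow, Seven.toList_pow,
        show toList (b : Equiv.Perm GolayPt) = fiveL from hbl, hb5]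
      exact toList_one.symm
    · intro e
      apply hb1
      rw [← hbl, show b = 1 from congrArg Subtype.val e, GolayTables.img_one]
  obtain ⟨m', hm5, -, hm20, hmod', hall', -⟩ := normalizer_against L ⟨b, hbL⟩ hord (by rw [hcard]; norm_num)
    fiveCands (fun σ k hk hk' he => by
      obtain ⟨f1, f2⟩ := twoStab_fix (hL σ.2)
      rw [fiveCands, List.mem_flatMap]
      refine ⟨k - 1, List.mem_range.mpr (by omega), ?_⟩
      rw [Nat.sub_add_cancel hk]
      have hcomm : ((σ : M24) : Equiv.Perm GolayPt) * (b : Equiv.Perm GolayPt) *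
          ((σ : M24) : Equiv.Perm GolayPt)⁻¹ = (b : Equiv.Perm GolayPt) ^ k := by
        have he' := congrArg (fun u : L => ((u : M24) : Equiv.Perm GolayPt)) he
        simp only [Subgroup.coe_mul, SubgroupClass.coe_pow] at he'
        rw [he', mul_inv_cancel_right]
      refine mem_searchImg_start (σ : M24).2 hcomm hbl (by rw [Seven.toList_pow]; exact congrArg (Seven.powL · k) hbl)
        hok fun s hs c hc => ?_
      have hs' := List.all_eq_true.mp hheads s hs
      simp only [Bool.or_eq_true, beq_iff_eq] at hs'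
      rcases hs' with (e | e) | e
      · rw [e, List.mem_range]
        by_cases hh : c < (toList ((σ : M24) : Equiv.Perm GolayPt)).length
        · rw [List.getD_eq_getElem _ _ hh, toList_getElem]; exact Fin.isLt _
        · rw [List.getD_eq_default _ _ (by omega)]; norm_num
      · rw [e] at hc ⊢
        simp only [List.head?_cons, Option.some.injEq] at hc
        subst hc
        rw [List.mem_singleton, show (23 : ℕ) = (idx (none : GolayPt)).val from rfl, toList_getD, f1]
      · rw [e] at hc ⊢
        simp only [List.head?_cons, Option.some.injEq] at hc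
        subst hc
        rw [List.mem_singleton]
        show (toList ((σ : M24) : Equiv.Perm GolayPt)).getD (idx (some 0 : GolayPt)).val 0 = (idx (some 0 : GolayPt)).val
        rw [toList_getD, f2])
  have hlen' := Nat.le_of_ble_eq_true hlen
  have hm' : m' = 20 := by
    obtain ⟨e, rfl⟩ := hm5
    rw [hcard] at hmod'
    have : e ≤ 4 := by omega
    interval_cases e <;> simp_all
  obtain ⟨c, hcL, hcl⟩ := hall' (by omega) fourL (List.contains_iff_mem.mp hfour)
  obtain ⟨a, haL, hal⟩ := ha
  haveI : Fact (Nat.Prime 7) := ⟨by norm_num⟩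
  have hac : orderOf (⟨a * c, mul_mem haL hcL⟩ : L) = 7 := by
    refine orderOf_eq_prime ?_ ?_
    · refine Subtype.ext (Subtype.ext (toList_injective ?_))
      rw [SubgroupClass.coe_pow, SubgroupClass.coe_pow, Seven.toList_pow,
        show toList ((a * c : M24) : Equiv.Perm GolayPt) = comp elevenL fourL by
          rw [← hal, ← hcl, ← GolayTables.img_mul]; rfl, h7]
      exact toList_one.symm
    · intro e
      apply h71
      rw [← hal, ← hcl, ← GolayTables.img_mul, show a * c = 1 from congrArg Subtype.val e, GolayTables.img_one]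
  have h := orderOf_dvd_natCard (⟨a * c, mul_mem haL hcL⟩ : L)
  rw [hac, hcard] at h
  norm_num at h

theorem no_order_2112 (L : Subgroup M24) (hL : L ≤ twoStab) (ha : ∃ g ∈ L, GolayTables.img g = elevenL) :
    Nat.card L ≠ 2112 := by
  intro hcard
  obtain ⟨m, hm11, hmd, hm55, hmod, -⟩ := eleven_step L hL ha (by rw [hcard]; norm_num)
  rw [hcard] at hmd hmod
  obtain ⟨e, rfl⟩ := hm11
  have : e ≤ 5 := by omega
  interval_cases e <;> simp_all

end CfsgLib.GolayIndex
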