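import Cfsg.Agent.Lib.GolayIndex.Basic
import Cfsg.Agent.Lib.FusionMathieu.Groups

/-!
# Subgroups of order 40320 in a point stabiliser of `M24`
-/

set_option autoImplicit false
set_option maxRecDepth 100000

namespace CfsgLib.GolayIndex

open Cfsg CfsgLib.Golay CfsgLib.FusionMathieu
open scoped Pointwise

/-- Point of a position. -/
def posPt (i : ℕ) : GolayPt := if i < 23 then some ((i : ℕ) : ZMod 23) else none

/-- Steps (new position, old position, generator) filling the orbit of position 2. -/
def stepsTwo : List (ℕ × ℕ × ℕ) := [(15, 8, 0)]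

/-- Steps filling the orbit of size four. -/
def stepsFour : List (ℕ × ℕ × ℕ) := [(16, 9, 0), (13, 9, 2), (12, 16, 1)]

/-- Steps filling the orbit of size sixteen. -/
def stepsSixteen : List (ℕ × ℕ × ℕ) :=
  [(6, 1, 0), (14, 1, 1), (5, 1, 2), (7, 1, 3), (20, 1, 4), (10, 6, 0), (3, 6, 2), (19, 6, 4), (2, 6, 6),
    (21, 14, 1), (22, 14, 2), (11, 14, 5), (18, 14, 6), (4, 5, 3), (17, 7, 0)]

/-- Positions of the five classes. -/
def classPos : List (List ℕ) :=
  [[23], [0], [8, 15], [9, 16, 13, 12], [1, 6, 14, 5, 7, 20, 10, 3, 19, 2, 21, 22, 11, 18, 4, 17]]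

/-- The octad through the classes of size at most four. -/
def heptOctad : Finset GolayPt := ([23, 0, 8, 15, 9, 16, 13, 12].map posPt).toFinset

theorem gens23_checks : chainOk m23Gens = true ∧ m23Gens.all (fun l => inG23 l) = true ∧
    m23Gens.length = 7 ∧
    ((stepsTwo ++ stepsFour ++ stepsSixteen).all fun f => Nat.blt f.2.2 7 &&
      Nat.beq ((m23Gens.getD f.2.2 []).getD f.2.1 0) f.1) = true := by
  decide +kernel

theorem pos_facts : (∀ p : GolayPt, posPt (idx p).val = p) ∧ (∀ i < 24, (idx (posPt i)).val = i) ∧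
    (∀ p : GolayPt, (idx p).val ∈ classPos.flatten) ∧ classPos.flatten.Nodup := by
  decide +kernel

theorem heptOctad_facts : encS heptOctad < 2 ^ 24 ∧ isCode (encS heptOctad) = true ∧ popc (encS heptOctad) = 8 := by
  decide +kernel

theorem heptOctad_mem : heptOctad ∈ octads :=
  mem_octads.mpr ⟨heptOctad_facts.2.1, heptOctad_facts.2.2⟩

/-- The Sylow subgroup given by the chain. -/
theorem exists_sylow23 : ∃ P : Subgroup M24, Nat.card P = 2 ^ 7 ∧
    P ≤ MulAction.stabilizer M24 (none : GolayPt) ∧ ∀ l ∈ m23Gens, ∃ g ∈ P, GolayTables.img g = l := by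
  obtain ⟨hch, hin, hlen, -⟩ := gens23_checks
  simp only [List.all_eq_true] at hin
  obtain ⟨P₀, -, hcard, hcl⟩ := exists_chain m23Gens hch
  have hle : P₀ ≤ Cfsg.Spor.M23 := by
    rw [hcl, Subgroup.closure_le]
    exact fun σ hσ => (mem_M23_iff σ).mpr (hin _ hσ)
  refine ⟨P₀.subgroupOf M24, ?_, fun g hg => (hle hg).2, fun l hl => ?_⟩
  · rw [Nat.card_congr (Subgroup.subgroupOfEquivOfLe (hle.trans M23_le)).toEquiv, hcard, hlen]
  · obtain ⟨σ, rfl⟩ := exists_valid_of_chainOk hch l hl
    have hσ : σ ∈ P₀ := hcl ▸ Subgroup.subset_closure hl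
    exact ⟨⟨σ, M23_le (hle hσ)⟩, hσ, rfl⟩

theorem size_check : ∀ b₀ b₂ b₄ : Bool,
    40320 % (16 + b₀.toNat + 2 * b₂.toNat + 4 * b₄.toNat) = 0 →
      (b₀ = false ∧ b₂ = false ∧ b₄ = false) ∨ (b₀ = false ∧ b₂ = true ∧ b₄ = false) ∨
        (b₀ = false ∧ b₂ = false ∧ b₄ = true) ∨ (b₀ = true ∧ b₂ = false ∧ b₄ = true) := by
  decide +kernel

/-- A subgroup of order 40320 fixing a point containing the reference Sylow subgroup. -/
theorem main23 (H : Subgroup M24) (hcard : Nat.card H = 40320)
    (hfix : H ≤ MulAction.stabilizer M24 (none : GolayPt))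
    (hgens : ∀ l ∈ m23Gens, ∃ g ∈ H, GolayTables.img g = l) :
    (∃ s : Finset GolayPt, s.card = 2 ∧ none ∉ s ∧
        H = MulAction.stabilizer M24 (none : GolayPt) ⊓ MulAction.stabilizer M24 s) ∨
      ∃ o ∈ octads, none ∈ o ∧ H = MulAction.stabilizer M24 (none : GolayPt) ⊓ MulAction.stabilizer M24 o := by
  classical
  set X := (Set.toFinite (MulAction.orbit H (posPt 1))).toFinset with hXdef
  have hXmem : ∀ p, p ∈ X ↔ p ∈ MulAction.orbit H (posPt 1) := fun p => Set.Finite.mem_toFinset _
  have hXinv : ∀ g ∈ H, ∀ p, g • p ∈ X ↔ p ∈ X := by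
    intro g hg p
    rw [hXmem, hXmem]
    constructor
    · rintro ⟨u, hu⟩
      refine ⟨⟨g, hg⟩⁻¹ * u, ?_⟩
      show (g⁻¹ * (u : M24)) • posPt 1 = p
      rw [mul_smul, show (u : M24) • posPt 1 = g • p from hu, inv_smul_smul]
    · rintro ⟨u, rfl⟩
      refine ⟨⟨g, hg⟩ * u, ?_⟩
      show (g * (u : M24)) • posPt 1 = g • ((u : M24) • posPt 1)
      rw [mul_smul]
  have hnone : none ∉ X := by
    rw [hXmem]
    rintro ⟨u, hu⟩
    have h : (u : M24)⁻¹ • (none : GolayPt) = none := MulAction.mem_stabilizer_iff.mp (hfix (inv_mem u.2))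
    rw [← show (u : M24) • posPt 1 = none from hu, inv_smul_smul] at h
    have h1 : posPt 1 ≠ none := by decide +kernel
    exact h1 (h.trans hu)
  have hdvd : X.card ∣ 40320 := by
    have h1 := GolayTables.card_inf_stabilizer H (posPt 1)
    rw [← Set.Finite.coe_toFinset (Set.toFinite (MulAction.orbit H (posPt 1))), Set.ncard_coe_finset,
      ← hXdef, hcard] at h1
    exact Dvd.intro _ h1
  obtain ⟨hpt, hidx, hcls, hnd⟩ := pos_facts
  -- constant along steps
  have hstep : ∀ f ∈ stepsTwo ++ stepsFour ++ stepsSixteen, f.2.1 < 24 → f.1 < 24 →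
      (posPt f.1 ∈ X ↔ posPt f.2.1 ∈ X) := by
    intro f hf h1 h2
    have h := gens23_checks.2.2.2
    simp only [List.all_eq_true, Bool.and_eq_true] at h
    obtain ⟨h3, h4⟩ := h f hf
    have hs : f.2.2 < m23Gens.length := by rw [gens23_checks.2.2.1]; exact Nat.le_of_ble_eq_true h3
    obtain ⟨g, hg, hgl⟩ := hgens (m23Gens.getD f.2.2 []) (by
      rw [List.getD_eq_getElem _ _ hs]; exact List.getElem_mem _)
    have : g • posPt f.2.1 = posPt f.1 := by
      refine idx_injective (Fin.ext ?_)
      rw [hidx _ h2, ← Nat.eq_of_beq_eq_true h4, ← hgl]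
      show _ = (toList _).getD f.2.1 0
      conv_rhs => rw [← hidx _ h1, toList_getD]
      rfl
    rw [← this, hXinv g hg]
  have h0 : posPt 1 ∈ X := (hXmem _).mpr (MulAction.mem_orbit_self _)
  have hS : ∀ i ∈ classPos.getD 4 [], posPt i ∈ X := by
    have e := fun f hf => hstep f (List.mem_append_right _ hf)
    have t : ∀ a b s, (a, b, s) ∈ stepsSixteen → a < 24 → b < 24 → posPt b ∈ X → posPt a ∈ X :=
      fun a b s h ha hb hbX => (e (a, b, s) h hb ha).mpr hbX
    have m6 := t 6 1 0 (by decide) (by norm_num) (by norm_num) h0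
    have m14 := t 14 1 1 (by decide) (by norm_num) (by norm_num) h0
    have m5 := t 5 1 2 (by decide) (by norm_num) (by norm_num) h0
    have m7 := t 7 1 3 (by decide) (by norm_num) (by norm_num) h0
    intro i hi
    simp only [classPos, List.getD_cons_succ, List.getD_cons_zero, List.mem_cons, List.not_mem_nil, or_false] at hi
    rcases hi with rfl | rfl | rfl | rfl | rfl | rfl | rfl | rfl | rfl | rfl | rfl | rfl | rfl | rfl | rfl | rfl
    exacts [h0, m6, m14, m5, m7, t 20 1 4 (by decide) (by norm_num) (by norm_num) h0,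
      t 10 6 0 (by decide) (by norm_num) (by norm_num) m6, t 3 6 2 (by decide) (by norm_num) (by norm_num) m6,
      t 19 6 4 (by decide) (by norm_num) (by norm_num) m6, t 2 6 6 (by decide) (by norm_num) (by norm_num) m6,
      t 21 14 1 (by decide) (by norm_num) (by norm_num) m14, t 22 14 2 (by decide) (by norm_num) (by norm_num) m14,
      t 11 14 5 (by decide) (by norm_num) (by norm_num) m14, t 18 14 6 (by decide) (by norm_num) (by norm_num) m14,
      t 4 5 3 (by decide) (by norm_num) (by norm_num) m5, t 17 7 0 (by decide) (by norm_num) (by norm_num) m7]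
  have e2 : posPt 15 ∈ X ↔ posPt 8 ∈ X := hstep (15, 8, 0) (by decide) (by norm_num) (by norm_num)
  have e16 : posPt 16 ∈ X ↔ posPt 9 ∈ X := hstep (16, 9, 0) (by decide) (by norm_num) (by norm_num)
  have e13 : posPt 13 ∈ X ↔ posPt 9 ∈ X := hstep (13, 9, 2) (by decide) (by norm_num) (by norm_num)
  have e12 : posPt 12 ∈ X ↔ posPt 9 ∈ X :=
    (hstep (12, 16, 1) (by decide) (by norm_num) (by norm_num)).trans e16
  let sel : Bool → Bool → Bool → Finset GolayPt := fun a b c =>
    (((classPos.getD 4 []) ++ (if a then [0] else []) ++ (if b then [8, 15] else []) ++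
      (if c then [9, 16, 13, 12] else [])).map posPt).toFinset
  have hX : X = sel (decide (posPt 0 ∈ X)) (decide (posPt 8 ∈ X)) (decide (posPt 9 ∈ X)) := by
    ext p
    simp only [sel, List.mem_toFinset, List.mem_map]
    constructor
    · intro hp
      refine ⟨(idx p).val, ?_, hpt p⟩
      have h := hcls p
      simp only [classPos, List.flatten_cons, List.flatten_nil, List.append_nil, List.mem_append,
        List.mem_cons, List.not_mem_nil, or_false] at h
      simp only [List.mem_append, classPos, List.getD_cons_succ, List.getD_cons_zero, List.mem_cons,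
        List.not_mem_nil, or_false]
      rcases h with h | h | (h | h) | (h | h | h | h) | h
      · exact absurd (by rw [← hpt p, h] at hp; exact hp : posPt 23 ∈ X) (by
          rw [show posPt 23 = none by decide +kernel]; exact hnone)
      all_goals
        try (left; left; left; exact h)
      all_goals
        rw [← hpt p, h] at hp
      · left; left; right; simp [hp, h]
      · left; right; simp [hp, h]
      · left; right; simp [e2.mp hp, h]
      · right; simp [hp, h]
      · right; simp [e16.mp hp, h]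
      · right; simp [e13.mp hp, h]
      · right; simp [e12.mp hp, h]
    · rintro ⟨i, hi, rfl⟩
      simp only [List.mem_append] at hi
      rcases hi with ((h | h) | h) | h
      · exact hS i h
      all_goals
        split_ifs at h with hb <;> simp only [List.mem_cons, List.not_mem_nil, or_false] at h
      · rw [decide_eq_true_eq] at hb; rw [h]; exact hb
      · rw [decide_eq_true_eq] at hb
        rcases h with rfl | rfl
        exacts [hb, e2.mpr hb]
      · rw [decide_eq_true_eq] at hb
        rcases h with rfl | rfl | rfl | rfl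
        exacts [hb, e16.mpr hb, e13.mpr hb, e12.mpr hb]
  have hsz : ∀ a b c, (sel a b c).card = 16 + a.toNat + 2 * b.toNat + 4 * c.toNat := by
    unfold sel; decide +kernel
  have hXfix : ∀ g ∈ H, g • X = X := fun g hg => by
    ext o
    rw [← Finset.smul_mem_smul_finset_iff g⁻¹, inv_smul_smul]
    exact hXinv g⁻¹ (inv_mem hg) o
  have hnfix : ∀ g ∈ H, g • ({none} : Finset GolayPt) = {none} := fun g hg => by
    rw [Finset.smul_finset_singleton, MulAction.mem_stabilizer_iff.mp (hfix hg)]
  have hcompl : ∀ (g : M24) (s : Finset GolayPt), g • s = s → g • sᶜ = sᶜ := by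
    intro g s hs
    show (g : Equiv.Perm GolayPt) • sᶜ = sᶜ
    rw [Golay.smul_compl]
    exact congrArg compl hs
  have hset : ∀ s : Finset GolayPt, s = Xᶜ \ {none} → ∀ g ∈ H, g • s = s := by
    rintro s rfl g hg
    show (g : Equiv.Perm GolayPt) • (Xᶜ \ {none}) = _
    rw [Finset.smul_finset_sdiff]
    exact congrArg₂ (fun u v => u \ v) (hcompl g X (hXfix g hg)) (hnfix g hg)
  have hoct : (∀ g ∈ H, g • heptOctad = heptOctad) →
      H = MulAction.stabilizer M24 (none : GolayPt) ⊓ MulAction.stabilizer M24 heptOctad := fun h => by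
    refine Subgroup.eq_of_le_of_card_ge (le_inf hfix fun g hg => h g hg) ?_
    rw [hcard, inf_comm]
    exact natCard_octadPoint_le heptOctad_mem (by decide +kernel)
  obtain ⟨a, b, c⟩ : ∃ a b : Bool, ∃ c : Bool, a = decide (posPt 0 ∈ X) ∧ b = decide (posPt 8 ∈ X) ∧
      c = decide (posPt 9 ∈ X) := ⟨_, _, _, rfl, rfl, rfl⟩
  obtain ⟨c, ha, hb, hc⟩ := c
  rw [← ha, ← hb, ← hc] at hX
  rw [hX, hsz] at hdvd
  rcases size_check a b c (Nat.mod_eq_zero_of_dvd hdvd |> id) with ⟨rfl, rfl, rfl⟩ | ⟨rfl, rfl, rfl⟩ |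
      ⟨rfl, rfl, rfl⟩ | ⟨rfl, rfl, rfl⟩
  · right
    refine ⟨heptOctad, heptOctad_mem, by decide +kernel, hoct fun g hg => ?_⟩
    have e : heptOctad = Xᶜ := by rw [hX]; unfold sel; decide +kernel
    rw [e]
    exact hcompl g X (hXfix g hg)
  · right
    refine ⟨heptOctad, heptOctad_mem, by decide +kernel, hoct fun g hg => ?_⟩
    have hZ : Xᶜ ⊆ heptOctad ∧ 5 ≤ (Xᶜ).card := by rw [hX]; unfold sel; decide +kernel
    refine octad_eq_of_five_le (smul_mem_octads g.2 heptOctad_mem) heptOctad_mem (hZ.2.trans ?_)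
    refine Finset.card_le_card (Finset.subset_inter ?_ hZ.1)
    have := hcompl g X (hXfix g hg)
    rw [← this]
    exact Finset.smul_finset_subset_smul_finset hZ.1
  · exfalso
    have hY : (Xᶜ \ {none} : Finset GolayPt).card = 3 ∧ none ∉ (Xᶜ \ {none} : Finset GolayPt) := by
      rw [hX]; unfold sel; decide +kernel
    have hle := Subgroup.card_le_of_le (le_inf hfix fun g hg => hset _ rfl g hg :
      H ≤ MulAction.stabilizer M24 (none : GolayPt) ⊓ MulAction.stabilizer M24 (Xᶜ \ {none}))
    have h := natCard_pointSet none _ hY.2 (by rw [hY.1]; norm_num)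
    rw [hY.1, show Nat.choose 23 3 = 1771 by decide] at h
    omega
  · left
    have hY : (Xᶜ \ {none} : Finset GolayPt).card = 2 ∧ none ∉ (Xᶜ \ {none} : Finset GolayPt) := by
      rw [hX]; unfold sel; decide +kernel
    refine ⟨_, hY.1, hY.2, Subgroup.eq_of_le_of_card_ge (le_inf hfix fun g hg => hset _ rfl g hg) ?_⟩
    have h := natCard_pointSet none _ hY.2 (by rw [hY.1]; norm_num)
    rw [hY.1, show Nat.choose 23 2 = 253 by decide] at h
    omega

end CfsgLib.GolayIndex
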