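import Cfsg.Agent.Lib.GolayIndex.OddTwentyFour
import Cfsg.Agent.Lib.GolayIndex.OddTwentyThree
import Cfsg.Agent.Lib.GolayIndex.Eleven
import Cfsg.Agent.Lib.Golay.Config

/-!
# Subgroups of given index in the Mathieu groups of degree 24, 23, 22
-/

set_option autoImplicit false
set_option maxRecDepth 100000

namespace CfsgLib.GolayIndex

open Cfsg CfsgLib.Golay
open scoped Pointwise

/-- Conjugation within a subgroup. -/
theorem exists_le_conj_within (K : Subgroup M24) (p n : ℕ) [Fact p.Prime] {N : ℕ} (hK : Nat.card K = N)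
    (hN : N ≠ 0) (h1 : p ^ n ∣ N) (h2 : ¬ p ^ (n + 1) ∣ N) (P L : Subgroup M24) (hPK : P ≤ K) (hLK : L ≤ K)
    (hP : Nat.card P = p ^ n) (hL : p ^ n ∣ Nat.card L) :
    ∃ g ∈ K, P ≤ L.map (MulAut.conj g).toMonoidHom ∧ L.map (MulAut.conj g).toMonoidHom ≤ K := by
  obtain ⟨g, hg⟩ := exists_le_conj p n (factorization_eq hK hN h1 h2) (P.subgroupOf K) (L.subgroupOf K)
    (by rw [Nat.card_congr (Subgroup.subgroupOfEquivOfLe hPK).toEquiv, hP])
    (by rwa [Nat.card_congr (Subgroup.subgroupOfEquivOfLe hLK).toEquiv])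
  refine ⟨g, g.2, fun x hx => ?_, ?_⟩
  · obtain ⟨y, hy, hyx⟩ := hg (show (⟨x, hPK hx⟩ : K) ∈ P.subgroupOf K from hx)
    exact ⟨y, hy, congrArg Subtype.val hyx⟩
  · rintro _ ⟨y, hy, rfl⟩
    exact mul_mem (mul_mem g.2 (hLK hy)) (inv_mem g.2)

theorem map_conj_inv (g : M24) (H : Subgroup M24) :
    (H.map (MulAut.conj g).toMonoidHom).map (MulAut.conj g⁻¹).toMonoidHom = H := by
  rw [Subgroup.map_map]
  convert Subgroup.map_id H using 2
  ext x
  simp [mul_assoc]

theorem card_map_conj (g : M24) (H : Subgroup M24) :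
    Nat.card (H.map (MulAut.conj g).toMonoidHom) = Nat.card H :=
  Subgroup.card_map_of_injective (MulAut.conj g).injective

theorem card_of_index {H : Subgroup M24} {n m : ℕ} (h : H.index = n) (hn : n * m = 244823040) (hn0 : 0 < n) :
    Nat.card H = m := by
  have := Subgroup.index_mul_card H
  rw [h, natCard_M24, ← hn] at this
  exact Nat.eq_of_mul_eq_mul_left hn0 this

theorem natCard_sextetStab {S : Finset (Finset GolayPt)} (hS : S ∈ sextets) :
    Nat.card (MulAction.stabilizer M24 S) = 138240 := by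
  have horb : MulAction.orbit M24 S = sextets := by
    ext e
    rw [MulAction.mem_orbit_iff]
    exact ⟨fun ⟨g, hg⟩ => hg ▸ sextets_smul_mem g S hS, fun he => exists_m24_smul (exists_smul_sextet_eq hS he)⟩
  have h := natCard_orbit_mul (G := M24) S
  rw [horb, ncard_sextets, natCard_M24] at h
  omega

theorem fixSextet_checks :
    ([16405, 329736, 1048898, 2105504, 4326912, 8949760].all fun a => Nat.beq (popc a) 4 && Nat.blt a (2 ^ 24) &&
      [16405, 329736, 1048898, 2105504, 4326912, 8949760].all fun b => Nat.beq a b ||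
        (isCode (Nat.lor a b) && Nat.beq (popc (Nat.lor a b)) 8)) = true ∧ fixSextet.card = 6 := by
  unfold fixSextet
  decide +kernel

theorem fixSextet_mem : fixSextet ∈ sextets := by
  obtain ⟨h, h6⟩ := fixSextet_checks
  simp only [List.all_eq_true, Bool.and_eq_true, Bool.or_eq_true] at h
  have hmem : ∀ t ∈ fixSextet, ∃ a ∈ [16405, 329736, 1048898, 2105504, 4326912, 8949760], decS a = t :=
    fun t ht => List.mem_map.mp (List.mem_toFinset.mp ht)
  refine ⟨h6, fun t ht => ?_, fun t ht u hu htu => ?_⟩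
  · obtain ⟨a, ha, rfl⟩ := hmem t ht
    rw [← popc_encS, encS_decS (Nat.le_of_ble_eq_true (h a ha).1.2)]
    exact Nat.eq_of_beq_eq_true (h a ha).1.1
  · obtain ⟨a, ha, rfl⟩ := hmem t ht
    obtain ⟨b, hb, rfl⟩ := hmem u hu
    have h' := ((h a ha).2 b hb).resolve_left fun e => htu (Nat.eq_of_beq_eq_true e ▸ rfl)
    have e : encS (decS a ∪ decS b) = Nat.lor a b := by
      refine mask_ext (fun p => ?_) (fun i hi => ?_)
      · show _ = (a ||| b).testBit _
        simp [Nat.testBit_or, testBit_encS, mem_decS]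
      · show _ = (a ||| b).testBit _
        rw [testBit_encS_ge _ hi, Nat.testBit_or, testBit_eq_false_of_lt (Nat.le_of_ble_eq_true (h a ha).1.2) hi,
          testBit_eq_false_of_lt (Nat.le_of_ble_eq_true (h b hb).1.2) hi]
        rfl
    rw [mem_octads, e]
    exact ⟨h'.1, Nat.eq_of_beq_eq_true h'.2⟩

theorem fixOctad_mem : fixOctad ∈ octads := by
  have h := octOrb_mem (j := 0) (by norm_num) (m := 11055264) (by rw [orbit_checks.2.2.2.2.2]; simp)
  unfold fixOctad
  exact h.2.1

/-- The odd indices 759, 1771, 253 in `M24`. -/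
theorem odd24 (H : Subgroup M24) {c : ℕ} (hc : c = 315 ∨ c = 135 ∨ c = 945) (hH : Nat.card H = 1024 * c) :
    (c = 315 ∧ ∃ o ∈ octads, H = MulAction.stabilizer M24 o) ∨
      (c = 135 ∧ ∃ S ∈ sextets, H = MulAction.stabilizer M24 S) := by
  haveI : Fact (Nat.Prime 2) := ⟨Nat.prime_two⟩
  obtain ⟨P, hP, hgens, hPO⟩ := exists_sylow24
  obtain ⟨g, -, hPH, -⟩ := exists_le_conj_within ⊤ 2 10
    ((Nat.card_congr Subgroup.topEquiv.toEquiv).trans natCard_M24) (by norm_num) (by norm_num) (by norm_num)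
    P H le_top le_top hP (by rw [hH]; exact Dvd.intro c (by norm_num))
  set H' := H.map (MulAut.conj g).toMonoidHom with hH'
  have hcard : Nat.card H' = 1024 * c := (card_map_conj g H).trans hH
  have hback : ∀ {α : Type} [MulAction M24 α] (a : α), H' = MulAction.stabilizer M24 a →
      H = MulAction.stabilizer M24 (g⁻¹ • a) := fun a h => by
    rw [← GolayTables.map_conj_stabilizer, ← h, hH', map_conj_inv]
  have hgH : ∀ l ∈ FusionMathieu.m24Gens, ∃ u ∈ H', GolayTables.img u = l := fun l hl => by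
    obtain ⟨u, hu, hul⟩ := hgens l hl
    exact ⟨u, hPH hu, hul⟩
  rcases odd_cases H' hgH P hP hPH hPO
      (by rw [hcard]; exact Nat.mul_dvd_mul_left _ (by rcases hc with rfl | rfl | rfl <;> norm_num)) with
    h | h | h
  · have hle : H' ≤ MulAction.stabilizer M24 fixOctad := fun u hu => h u hu
    have hd := Subgroup.card_dvd_of_le hle
    rw [hcard, natCard_stabilizer_octad fixOctad_mem] at hd
    rcases hc with rfl | rfl | rfl
    · left
      refine ⟨rfl, g⁻¹ • fixOctad, octads_smul_mem _ _ fixOctad_mem, hback _ (Subgroup.eq_of_le_of_card_ge hle ?_)⟩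
      rw [hcard, natCard_stabilizer_octad fixOctad_mem]
    all_goals norm_num at hd
  · have hle := trio_card_le h
    rw [hcard] at hle
    rcases hc with rfl | rfl | rfl <;> omega
  · have hle : H' ≤ MulAction.stabilizer M24 fixSextet := fun u hu => h u hu
    have hd := Subgroup.card_le_of_le hle
    rw [hcard, natCard_sextetStab fixSextet_mem] at hd
    rcases hc with rfl | rfl | rfl
    · omega
    · right
      refine ⟨rfl, g⁻¹ • fixSextet, sextets_smul_mem _ _ fixSextet_mem,
        hback _ (Subgroup.eq_of_le_of_card_ge hle ?_)⟩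
      rw [hcard, natCard_sextetStab fixSextet_mem]
    · omega

theorem exists_eleven : ∃ a : M24, GolayTables.img a = elevenL ∧ a ∈ twoStab ∧
    Nat.card (Subgroup.zpowers a) = 11 := by
  refine ⟨⟨doublePerm, doublePerm_mem_M24⟩, ?_, ⟨?_, ?_⟩, ?_⟩
  · rw [eleven_facts.1, ← toList_doublePerm_pow ⟨1, by norm_num⟩, pow_one]
    rfl
  · show doublePerm none = none
    decide +kernel
  · show doublePerm (some 0) = some 0
    decide +kernel
  · rw [Nat.card_zpowers, ← Subgroup.orderOf_coe]
    exact orderOf_doublePerm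

theorem index276 (H : Subgroup M24) (hH : Nat.card H = 887040) :
    ∃ s : Finset GolayPt, s.card = 2 ∧ H = MulAction.stabilizer M24 s := by
  haveI : Fact (Nat.Prime 11) := ⟨by norm_num⟩
  obtain ⟨a, hal, -, hac⟩ := exists_eleven
  obtain ⟨g, -, hPH, -⟩ := exists_le_conj_within ⊤ 11 1
    ((Nat.card_congr Subgroup.topEquiv.toEquiv).trans natCard_M24) (by norm_num) (by norm_num) (by norm_num)
    (Subgroup.zpowers a) H le_top le_top (by rw [hac, pow_one]) (by rw [hH]; norm_num)
  have h := main276 _ ((card_map_conj g H).trans hH) ⟨a, hPH (Subgroup.mem_zpowers a), hal⟩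
  refine ⟨g⁻¹ • {none, some 0}, ?_, ?_⟩
  · show (((g⁻¹ : M24) : Equiv.Perm GolayPt) • ({none, some 0} : Finset GolayPt)).card = 2
    rw [Finset.card_smul_finset]
    decide
  · rw [← GolayTables.map_conj_stabilizer, ← h, map_conj_inv]

theorem m22_orders {p q : GolayPt} (hpq : p ≠ q) (L : Subgroup M24)
    (hL : L ≤ MulAction.stabilizer M24 p ⊓ MulAction.stabilizer M24 q) :
    Nat.card L ≠ 7920 ∧ Nat.card L ≠ 2112 := by
  by_contra hne
  haveI : Fact (Nat.Prime 11) := ⟨by norm_num⟩
  obtain ⟨g, hg, hmap⟩ := exists_map_eq (L := [p, q]) (L' := [none, some 0]) (by simp [hpq]) (by simp) rfl (by simp)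
  simp only [List.map_cons, List.map_nil, List.cons.injEq, and_true] at hmap
  have h1 : (⟨g, hg⟩ : M24) • p = none := hmap.1
  have h2 : (⟨g, hg⟩ : M24) • q = some 0 := hmap.2
  have hL1 : L.map (MulAut.conj (⟨g, hg⟩ : M24)).toMonoidHom ≤ twoStab := by
    refine (Subgroup.map_mono hL).trans ?_
    rw [GolayTables.map_conj_inf, GolayTables.map_conj_stabilizer, GolayTables.map_conj_stabilizer, h1, h2]
    exact le_rfl
  have hc1 := card_map_conj (⟨g, hg⟩ : M24) L
  obtain ⟨a, hal, hat, hac⟩ := exists_eleven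
  have h11 : 11 ∣ Nat.card L := by
    rcases not_and_or.mp hne with h | h <;> rw [not_not] at h <;> rw [h] <;> norm_num
  obtain ⟨u, -, hPu, hu⟩ := exists_le_conj_within twoStab 11 1 natCard_twoStab (by norm_num) (by norm_num)
    (by norm_num) (Subgroup.zpowers a) _ (Subgroup.zpowers_le.mpr hat) hL1 (by rw [hac, pow_one])
    (by rwa [hc1, pow_one])
  have hc2 := (card_map_conj u (L.map (MulAut.conj (⟨g, hg⟩ : M24)).toMonoidHom)).trans hc1
  refine hne ⟨?_, ?_⟩
  · rw [← hc2]; exact no_order_7920 _ hu ⟨a, hPu (Subgroup.mem_zpowers a), hal⟩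
  · rw [← hc2]; exact no_order_2112 _ hu ⟨a, hPu (Subgroup.mem_zpowers a), hal⟩

theorem m23_order (x : GolayPt) (L : Subgroup M24) (hL : L ≤ MulAction.stabilizer M24 x)
    (hcard : Nat.card L = 40320) :
    (∃ s : Finset GolayPt, s.card = 2 ∧ x ∉ s ∧ L = MulAction.stabilizer M24 x ⊓ MulAction.stabilizer M24 s) ∨
      ∃ o ∈ octads, x ∈ o ∧ L = MulAction.stabilizer M24 x ⊓ MulAction.stabilizer M24 o := by
  haveI : Fact (Nat.Prime 2) := ⟨Nat.prime_two⟩
  obtain ⟨g, hg, hmap⟩ := exists_map_eq (L := [x]) (L' := [none]) (by simp) (by simp) rfl (by simp)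
  simp only [List.map_cons, List.map_nil, List.cons.injEq, and_true] at hmap
  have h1 : (⟨g, hg⟩ : M24) • x = none := hmap
  have hL1 : L.map (MulAut.conj (⟨g, hg⟩ : M24)).toMonoidHom ≤ MulAction.stabilizer M24 (none : GolayPt) := by
    refine (Subgroup.map_mono hL).trans ?_
    rw [GolayTables.map_conj_stabilizer, h1]
  have hK : Nat.card (MulAction.stabilizer M24 (none : GolayPt)) = 10200960 := by
    have horb : MulAction.orbit M24 (none : GolayPt) = Set.univ := by
      refine Set.eq_univ_of_forall fun y => ?_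
      obtain ⟨u, hu, huy⟩ := exists_map_eq (L := [none]) (L' := [y]) (by simp) (by simp) rfl (by simp)
      exact ⟨⟨u, hu⟩, List.head_eq_of_cons_eq huy⟩
    have h := natCard_orbit_mul (G := M24) (none : GolayPt)
    rw [horb, Set.ncard_univ, Nat.card_eq_fintype_card, card_golayPt, natCard_M24] at h
    omega
  obtain ⟨P, hP, hPK, hgens⟩ := exists_sylow23
  obtain ⟨u, huK, hPu, hu⟩ := exists_le_conj_within _ 2 7 hK (by norm_num) (by norm_num) (by norm_num) P _ hPK hL1
    hP (by rw [card_map_conj, hcard]; norm_num)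
  set v : M24 := u * ⟨g, hg⟩ with hv
  have hLv : (L.map (MulAut.conj (⟨g, hg⟩ : M24)).toMonoidHom).map (MulAut.conj u).toMonoidHom =
      L.map (MulAut.conj v).toMonoidHom := by
    rw [Subgroup.map_map, hv, map_mul]
    rfl
  rw [hLv] at hu hPu
  have hvx : v • x = none := by rw [hv, mul_smul, h1]; exact MulAction.mem_stabilizer_iff.mp huK
  have hxv : v⁻¹ • (none : GolayPt) = x := by rw [← hvx, inv_smul_smul]
  have hgL : ∀ l ∈ FusionMathieu.m23Gens, ∃ w ∈ L.map (MulAut.conj v).toMonoidHom, GolayTables.img w = l :=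
    fun l hl => by
      obtain ⟨w, hw, hwl⟩ := hgens l hl
      exact ⟨w, hPu hw, hwl⟩
  rcases main23 _ ((card_map_conj v L).trans hcard) hu hgL with ⟨s, hs2, hns, heq⟩ | ⟨o, ho, hno, heq⟩
  · left
    refine ⟨v⁻¹ • s, ?_, fun h => hns ?_, ?_⟩
    · show (((v⁻¹ : M24) : Equiv.Perm GolayPt) • s).card = 2
      rw [Finset.card_smul_finset, hs2]
    · have := Finset.smul_mem_smul_finset (a := v) h
      rwa [smul_inv_smul, hvx] at this
    · rw [← hxv, ← GolayTables.map_conj_stabilizer, ← GolayTables.map_conj_stabilizer, ← GolayTables.map_conj_inf,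
        ← heq, map_conj_inv]
  · right
    refine ⟨v⁻¹ • o, octads_smul_mem _ _ ho, ?_, ?_⟩
    · rw [← hxv]; exact Finset.smul_mem_smul_finset hno
    · rw [← hxv, ← GolayTables.map_conj_stabilizer, ← GolayTables.map_conj_stabilizer, ← GolayTables.map_conj_inf,
        ← heq, map_conj_inv]

end CfsgLib.GolayIndex
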