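import Cfsg.Agent.Lib.GolayIndex.Basic
import Cfsg.Agent.Lib.GolayIndex.Data
import Cfsg.Agent.Lib.FusionMathieu.Groups

/-!
# Subgroups of `M24` of odd index whose order has odd part dividing 945
-/

set_option autoImplicit false
set_option Elab.async false
set_option maxRecDepth 100000

namespace CfsgLib.GolayIndex

open Cfsg CfsgLib.Golay CfsgLib.FusionMathieu
open scoped Pointwise

/-- The members of an orbit list. -/
def octOrb (j : ℕ) : List ℕ := octOrbits.getD j []

/-- The representative. -/
def octRep (j : ℕ) : ℕ := (octOrb j).getD 0 0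

/-- The fixed octad. -/
@[irreducible] def fixOctad : Finset GolayPt := decS 11055264

/-- The fixed trio. -/
def fixTrio : Finset (Finset GolayPt) := ([11055264, 1378634, 4343317].map decS).toFinset

/-- The fixed sextet. -/
def fixSextet : Finset (Finset GolayPt) :=
  ([16405, 329736, 1048898, 2105504, 4326912, 8949760].map decS).toFinset

theorem gens24_checks : chainOk m24Gens = true ∧ m24Gens.all (fun l => inG24 l) = true ∧
    m24Gens.all (fun l => Nat.beq (pmap l 11055264) 11055264) = true ∧ m24Gens.length = 10 := by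
  decide +kernel

theorem orbit_checks :
    (octOrbits.flatten.all fun m => Nat.blt m (2 ^ 24) && isCode m && Nat.beq (popc m) 8) = true ∧
    GolayTables.distinctOK octOrbits.flatten = true ∧ octOrbits.flatten.length = 759 ∧ octOrbits.length = 14 ∧
    octRep 0 = 11055264 ∧ octOrb 0 = [11055264] := by
  decide +kernel

theorem parent_checks :
    ((List.range 14).all fun j => (List.range (octOrb j).length).all fun i => Nat.beq i 0 ||
      (let f := (octParents.getD j []).getD (Nat.sub i 1) (0, 0)
       Nat.blt f.1 i && Nat.blt f.2 10 &&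
        Nat.beq (pmap (m24Gens.getD f.2 []) ((octOrb j).getD f.1 0)) ((octOrb j).getD i 0))) = true := by
  decide +kernel

theorem disjMat_check :
    ((List.range 14).all fun i => (List.range 14).all fun j =>
      Nat.beq ((octOrb j).countP fun m => Nat.beq (Nat.land (octRep i) m) 0)
        ((disjMat.getD i []).getD j 0)) = true := by
  decide +kernel

/-- The selected orbit numbers. -/
def selOrbs (m : ℕ) : List ℕ := 0 :: ((List.range 13).filter fun i => m.testBit i).map (· + 1)

/-- The numerical conditions on a selection. -/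
def selOK (m : ℕ) : Bool :=
  Nat.beq (945 % ((selOrbs m).map fun j => (octOrb j).length).sum) 0 &&
    (selOrbs m).all fun i => Nat.beq ((selOrbs m).map fun j => (disjMat.getD i []).getD j 0).sum
      ((selOrbs m).map fun j => (disjMat.getD 0 []).getD j 0).sum

/-- The test on a block of selections. -/
def selBlock (lo : ℕ) : Bool := (List.range' lo 2048).all fun m => !(selOK m) || [0, 1, 11].contains m

theorem selBlock_0 : selBlock 0 = true := by decide +kernel

theorem selBlock_2048 : selBlock 2048 = true := by decide +kernel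

theorem selBlock_4096 : selBlock 4096 = true := by decide +kernel

theorem selBlock_6144 : selBlock 6144 = true := by decide +kernel

theorem selections : ((List.range 8192).all fun m => !(selOK m) || [0, 1, 11].contains m) = true := by
  have e : List.range 8192 =
      List.range' 0 2048 ++ (List.range' 2048 2048 ++ (List.range' 4096 2048 ++ List.range' 6144 2048)) := by
    rw [List.range_eq_range', List.range'_append_1, List.range'_append_1, List.range'_append_1]
  rw [e, List.all_append, List.all_append, List.all_append]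
  exact Bool.and_eq_true_iff.2 ⟨selBlock_0, Bool.and_eq_true_iff.2 ⟨selBlock_2048,
    Bool.and_eq_true_iff.2 ⟨selBlock_4096, selBlock_6144⟩⟩⟩

theorem sel_facts : selOrbs 0 = [0] ∧ selOrbs 1 = [0, 1] ∧ selOrbs 11 = [0, 1, 2, 4] ∧
    ([0, 1] : List ℕ).flatMap octOrb = octOrb 0 ++ octOrb 1 := by decide +kernel

theorem trio_fact : (((selOrbs 1).flatMap octOrb).map decS).toFinset = fixTrio := by decide +kernel

theorem sextet_fact :
    ((((selOrbs 11).flatMap octOrb).flatMap fun a => (((selOrbs 11).flatMap octOrb).map (Nat.land a)).filter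
      fun c => Nat.beq (popc c) 4).map decS).toFinset = fixSextet := by
  decide +kernel

theorem mem_octOrbits {o : Finset GolayPt} (ho : o ∈ octads) : ∃ j < 14, encS o ∈ octOrb j := by
  obtain ⟨hall, hdis, hlen, h14, -, -⟩ := orbit_checks
  have hnd := GolayTables.nodup_of_distinctOK _ hdis
  simp only [List.all_eq_true, Bool.and_eq_true] at hall
  have hsub : ((octOrbits.flatten.toFinset.image decS : Finset (Finset GolayPt)) : Set (Finset GolayPt)) ⊆
      octads := by
    intro x hx
    rw [Finset.mem_coe, Finset.mem_image] at hx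
    obtain ⟨m, hm, rfl⟩ := hx
    obtain ⟨⟨h1, h2⟩, h3⟩ := hall m (List.mem_toFinset.mp hm)
    rw [mem_octads, encS_decS (Nat.le_of_ble_eq_true h1)]
    exact ⟨h2, Nat.eq_of_beq_eq_true h3⟩
  have hinj : Set.InjOn decS (octOrbits.flatten.toFinset : Set ℕ) := fun a ha b hb e => by
    rw [Finset.mem_coe, List.mem_toFinset] at ha hb
    rw [← encS_decS (Nat.le_of_ble_eq_true (hall a ha).1.1), e,
      encS_decS (Nat.le_of_ble_eq_true (hall b hb).1.1)]
  have heq := Set.eq_of_subset_of_ncard_le hsub (by
    rw [Set.ncard_coe_finset, Finset.card_image_of_injOn hinj, List.toFinset_card_of_nodup hnd, hlen,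
      ncard_octads]) (Set.toFinite _)
  rw [← heq, Finset.mem_coe, Finset.mem_image] at ho
  obtain ⟨m, hm, rfl⟩ := ho
  rw [List.mem_toFinset] at hm
  rw [encS_decS (Nat.le_of_ble_eq_true (hall m hm).1.1)]
  obtain ⟨L, hL, hmL⟩ := List.mem_flatten.mp hm
  obtain ⟨j, hj, rfl⟩ := List.getElem_of_mem hL
  exact ⟨j, h14 ▸ hj, by rw [octOrb, List.getD_eq_getElem _ _ hj]; exact hmL⟩

theorem octOrb_mem {j : ℕ} (hj : j < 14) {m : ℕ} (hm : m ∈ octOrb j) :
    m < 2 ^ 24 ∧ decS m ∈ octads ∧ m ∈ octOrbits.flatten := by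
  obtain ⟨hall, -, -, h14, -, -⟩ := orbit_checks
  simp only [List.all_eq_true, Bool.and_eq_true] at hall
  have hmem : m ∈ octOrbits.flatten :=
    List.mem_flatten.mpr ⟨_, by rw [octOrb, List.getD_eq_getElem _ _ (h14 ▸ hj)]; exact List.getElem_mem _, hm⟩
  obtain ⟨⟨h1, h2⟩, h3⟩ := hall m hmem
  refine ⟨Nat.le_of_ble_eq_true h1, ?_, hmem⟩
  rw [mem_octads, encS_decS (Nat.le_of_ble_eq_true h1)]
  exact ⟨h2, Nat.eq_of_beq_eq_true h3⟩

/-- The Sylow subgroup given by the chain. -/
theorem exists_sylow24 : ∃ P : Subgroup M24, Nat.card P = 2 ^ 10 ∧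
    (∀ l ∈ m24Gens, ∃ g ∈ P, GolayTables.img g = l) ∧ P ≤ MulAction.stabilizer M24 fixOctad := by
  obtain ⟨hch, hin, hfix, hlen⟩ := gens24_checks
  simp only [List.all_eq_true] at hin hfix
  obtain ⟨P₀, -, hcard, hcl⟩ := exists_chain m24Gens hch
  have hle : P₀ ≤ M24 := by
    rw [hcl, Subgroup.closure_le]
    exact fun σ hσ => (mem_M24_iff' σ).mpr (hin _ hσ)
  have hle' : P₀ ≤ (MulAction.stabilizer (Equiv.Perm GolayPt) fixOctad) := by
    rw [hcl, Subgroup.closure_le]
    intro σ hσ
    refine MulAction.mem_stabilizer_iff.mpr (encS_injective ?_)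
    rw [encS_smul, show fixOctad = decS 11055264 by unfold fixOctad; rfl, encS_decS (by norm_num)]
    exact Nat.eq_of_beq_eq_true (hfix _ hσ)
  refine ⟨P₀.subgroupOf M24, ?_, fun l hl => ?_, fun g hg => hle' hg⟩
  · rw [Nat.card_congr (Subgroup.subgroupOfEquivOfLe hle).toEquiv, hcard, hlen]
  · obtain ⟨σ, rfl⟩ := exists_valid_of_chainOk hch l hl
    have hσ : σ ∈ P₀ := hcl ▸ Subgroup.subset_closure hl
    exact ⟨⟨σ, hle hσ⟩, hσ, rfl⟩

theorem trio_card_le {H : Subgroup M24} (h : ∀ g ∈ H, g • fixTrio = fixTrio) : Nat.card H ≤ 96768 := by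
  classical
  set K := MulAction.stabilizer M24 fixTrio with hK
  have hHK : H ≤ K := fun g hg => h g hg
  set a : Finset GolayPt := decS 11055264
  set b : Finset GolayPt := decS 1378634
  have hfacts : a ∈ fixTrio ∧ b ∈ fixTrio ∧ fixTrio.card = 3 ∧ a ∈ octads ∧ b ∈ octads ∧ (a ∩ b).card = 0 := by
    simp only [mem_octads]
    unfold a b fixTrio
    decide +kernel
  obtain ⟨ha, hb, hc, hao, hbo, hab⟩ := hfacts
  have horb : ∀ (L : Subgroup M24), L ≤ K → ∀ x ∈ fixTrio, (MulAction.orbit L x).ncard ≤ 3 := by
    intro L hL x hx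
    rw [← hc, ← Set.ncard_coe_finset]
    refine Set.ncard_le_ncard ?_ (Set.toFinite _)
    rintro _ ⟨⟨g, hg⟩, rfl⟩
    rw [Finset.mem_coe, ← MulAction.mem_stabilizer_iff.mp (hL hg)]
    exact Finset.smul_mem_smul_finset hx
  have h1 := GolayTables.card_inf_stabilizer K a
  have h2 := GolayTables.card_inf_stabilizer (K ⊓ MulAction.stabilizer M24 a) b
  have h3 : Nat.card ↥(K ⊓ MulAction.stabilizer M24 a ⊓ MulAction.stabilizer M24 b) ≤ 10752 := by
    rw [← (natCard_two_octads hao hbo).1 hab]
    exact Subgroup.card_le_of_le (inf_le_inf_right _ inf_le_right)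
  have m2 := Nat.mul_le_mul (horb (K ⊓ MulAction.stabilizer M24 a) inf_le_left b hb) h3
  rw [h2] at m2
  have m1 := Nat.mul_le_mul (horb K le_rfl a ha) m2
  rw [h1] at m1
  exact (Subgroup.card_le_of_le hHK).trans m1

theorem land_lt {a : ℕ} (b : ℕ) (ha : a < 2 ^ 24) : Nat.land a b < 2 ^ 24 :=
  lt_of_le_of_lt Nat.and_le_left ha

theorem inter_empty_iff (o x : Finset GolayPt) : o ∩ x = ∅ ↔ Nat.land (encS o) (encS x) = 0 := by
  rw [← encS_injective.eq_iff, encS_inter, encS_empty]
  rfl

/-- The three possibilities. -/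
theorem odd_cases (H : Subgroup M24) (hH : ∀ l ∈ m24Gens, ∃ g ∈ H, GolayTables.img g = l)
    (P : Subgroup M24) (hP : Nat.card P = 2 ^ 10) (hPH : P ≤ H) (hPO : P ≤ MulAction.stabilizer M24 fixOctad)
    (hdvd : Nat.card H ∣ 1024 * 945) :
    (∀ g ∈ H, g • fixOctad = fixOctad) ∨ (∀ g ∈ H, g • fixTrio = fixTrio) ∨
      (∀ g ∈ H, g • fixSextet = fixSextet) := by
  classical
  obtain ⟨-, hdis, -, h14, hrep0, horb0⟩ := orbit_checks
  set X := (Set.toFinite (MulAction.orbit H fixOctad)).toFinset with hXdef
  have hXmem : ∀ o, o ∈ X ↔ o ∈ MulAction.orbit H fixOctad := fun o => Set.Finite.mem_toFinset _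
  have hXinv : ∀ g ∈ H, ∀ o, g • o ∈ X ↔ o ∈ X := by
    intro g hg o
    rw [hXmem, hXmem]
    constructor
    · intro h
      obtain ⟨u, hu⟩ := h
      refine ⟨⟨g, hg⟩⁻¹ * u, ?_⟩
      show (g⁻¹ * (u : M24)) • fixOctad = o
      rw [mul_smul, show (u : M24) • fixOctad = g • o from hu, inv_smul_smul]
    · rintro ⟨u, rfl⟩
      refine ⟨⟨g, hg⟩ * u, ?_⟩
      show (g * (u : M24)) • fixOctad = g • ((u : M24) • fixOctad)
      rw [mul_smul]
  have hO : fixOctad ∈ octads := by
    rw [show fixOctad = decS (octRep 0) by unfold fixOctad; rw [hrep0]]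
    exact (octOrb_mem (j := 0) (by norm_num) (by rw [horb0, hrep0]; exact List.mem_singleton.mpr rfl)).2.1
  have hXoct : ∀ o ∈ X, o ∈ octads := by
    intro o ho
    rw [hXmem] at ho
    obtain ⟨⟨g, -⟩, rfl⟩ := ho
    exact octads_smul_mem g _ hO
  -- the size
  have hXdvd : X.card ∣ 945 := by
    have h1 := GolayTables.card_inf_stabilizer H fixOctad
    rw [← Set.Finite.coe_toFinset (Set.toFinite (MulAction.orbit H fixOctad)), Set.ncard_coe_finset,
      ← hXdef] at h1
    obtain ⟨e, he⟩ : 1024 ∣ Nat.card ↥(H ⊓ MulAction.stabilizer M24 fixOctad) := by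
      have := Subgroup.card_dvd_of_le (le_inf hPH hPO)
      rwa [hP] at this
    rw [← h1, he] at hdvd
    have h2 : 1024 * (X.card * e) ∣ 1024 * 945 := by
      convert hdvd using 1; ring
    exact (Dvd.intro e rfl).trans (Nat.dvd_of_mul_dvd_mul_left (by norm_num) h2)
  -- constant on orbits
  have hconst : ∀ j < 14, ∀ m ∈ octOrb j, (decS m ∈ X ↔ decS (octRep j) ∈ X) := by
    intro j hj
    have key : ∀ i, i < (octOrb j).length → (decS ((octOrb j).getD i 0) ∈ X ↔ decS (octRep j) ∈ X) := by
      intro i
      induction i using Nat.strong_induction_on with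
      | _ i ih =>
        intro hi
        have h := parent_checks
        simp only [List.all_eq_true, List.mem_range, Bool.or_eq_true, Bool.and_eq_true] at h
        rcases h j hj i hi with h0 | ⟨⟨h1, h2⟩, h3⟩
        · rw [Nat.eq_of_beq_eq_true h0]; rfl
        · have hlt := Nat.le_of_ble_eq_true h1
          set f := (octParents.getD j []).getD (Nat.sub i 1) (0, 0)
          have hlt' : f.1 < (octOrb j).length := lt_trans hlt hi
          have hs : f.2 < m24Gens.length := by rw [gens24_checks.2.2.2]; exact Nat.le_of_ble_eq_true h2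
          obtain ⟨g, hg, hgl⟩ := hH (m24Gens.getD f.2 []) (by
            rw [List.getD_eq_getElem _ _ hs]; exact List.getElem_mem _)
          have hm : (octOrb j).getD f.1 0 ∈ octOrb j := by
            rw [List.getD_eq_getElem _ _ hlt']; exact List.getElem_mem _
          have hgm : g • decS ((octOrb j).getD f.1 0) = decS ((octOrb j).getD i 0) := by
            show (g : Equiv.Perm GolayPt) • decS ((octOrb j).getD f.1 0) = _
            rw [smul_decS _ (octOrb_mem hj hm).1]
            refine congrArg decS ?_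
            rw [← Nat.eq_of_beq_eq_true h3, ← hgl]
            rfl
          rw [← hgm, hXinv g hg, ih _ hlt hlt']
    intro m hm
    obtain ⟨i, hi, rfl⟩ := List.getElem_of_mem hm
    have := key i hi
    rwa [List.getD_eq_getElem _ _ hi] at this
  -- the selection
  let m : ℕ := Nat.ofBits fun i : Fin 13 => decide (decS (octRep (i.val + 1)) ∈ X)
  have hm : m < 8192 := Nat.ofBits_lt_two_pow _
  have hsel : ∀ j < 14, (j ∈ selOrbs m ↔ decS (octRep j) ∈ X) := by
    intro j hj
    rcases j with _ | j
    · simp only [selOrbs, List.mem_cons, true_or, true_iff, hrep0]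
      rw [hXmem, show decS 11055264 = fixOctad by unfold fixOctad; rfl]
      exact MulAction.mem_orbit_self _
    · have hj' : j < 13 := by omega
      simp only [selOrbs, List.mem_cons, List.mem_map, List.mem_filter, List.mem_range, Nat.add_right_cancel_iff,
        exists_eq_right, Nat.succ_ne_zero, false_or, hj', true_and, m]
      rw [Nat.testBit_ofBits_lt _ _ hj', decide_eq_true_eq]
  have hsel14 : ∀ j ∈ selOrbs m, j < 14 := by
    intro j hj
    simp only [selOrbs, List.mem_cons, List.mem_map, List.mem_filter, List.mem_range] at hj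
    rcases hj with rfl | ⟨i, ⟨hi, -⟩, rfl⟩ <;> omega
  set W := (selOrbs m).flatMap octOrb with hW
  have hWX : X = (W.map decS).toFinset := by
    ext o
    rw [List.mem_toFinset, List.mem_map, hW]
    constructor
    · intro ho
      obtain ⟨j, hj, hjo⟩ := mem_octOrbits (hXoct o ho)
      refine ⟨encS o, List.mem_flatMap.mpr ⟨j, (hsel j hj).mpr ?_, hjo⟩, decS_encS o⟩
      rw [← hconst j hj _ hjo, decS_encS]
      exact ho
    · rintro ⟨k, hk, rfl⟩
      obtain ⟨j, hj, hjk⟩ := List.mem_flatMap.mp hk
      exact (hconst j (hsel14 j hj) k hjk).mpr ((hsel j (hsel14 j hj)).mp hj)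
  have hWlt : ∀ k ∈ W, k < 2 ^ 24 := fun k hk => by
    obtain ⟨j, hj, hjk⟩ := List.mem_flatMap.mp hk
    exact (octOrb_mem (hsel14 j hj) hjk).1
  have hWnd : W.Nodup := by
    have hs : (selOrbs m).Sublist (List.range 14) := by
      rw [show List.range 14 = 0 :: (List.range 13).map (· + 1) by rfl]
      exact List.Sublist.cons_cons _ (List.filter_sublist.map _)
    have hflat : (List.range 14).flatMap octOrb = octOrbits.flatten := by
      rw [List.flatMap_def]
      congr 1
    have hsl : W.Sublist ((List.range 14).flatMap octOrb) := by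
      rw [hW, List.flatMap_def, List.flatMap_def]
      exact (hs.map octOrb).flatten
    exact hsl.nodup (hflat ▸ GolayTables.nodup_of_distinctOK _ hdis)
  have hnd' : (W.map decS).Nodup := hWnd.map_on fun a ha b hb e => by
    rw [← encS_decS (hWlt a ha), e, encS_decS (hWlt b hb)]
  have hcount : ∀ o : Finset GolayPt, (X.filter fun x => o ∩ x = ∅).card =
      ((selOrbs m).map fun j => (octOrb j).countP fun k => Nat.beq (Nat.land (encS o) k) 0).sum := by
    intro o
    have e1 : W.countP (fun k => Nat.beq (Nat.land (encS o) k) 0) =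
        ((selOrbs m).map fun j => (octOrb j).countP fun k => Nat.beq (Nat.land (encS o) k) 0).sum := by
      rw [hW, List.countP_flatMap]
      rfl
    rw [← e1, hWX, List.countP_eq_length_filter]
    have e2 : (W.map decS).toFinset.filter (fun x => o ∩ x = ∅) =
        ((W.filter fun k => Nat.beq (Nat.land (encS o) k) 0).map decS).toFinset := by
      ext x
      simp only [Finset.mem_filter, List.mem_toFinset, List.mem_map, List.mem_filter]
      constructor
      · rintro ⟨⟨k, hk, rfl⟩, h⟩
        rw [inter_empty_iff, encS_decS (hWlt k hk)] at h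
        exact ⟨k, ⟨hk, by rw [h]; rfl⟩, rfl⟩
      · rintro ⟨k, ⟨hk, h⟩, rfl⟩
        refine ⟨⟨k, hk, rfl⟩, ?_⟩
        rw [inter_empty_iff, encS_decS (hWlt k hk)]
        exact Nat.eq_of_beq_eq_true h
    rw [e2, List.toFinset_card_of_nodup ((List.filter_sublist.map decS).nodup hnd'), List.length_map]
  -- the conditions hold
  have hok : selOK m = true := by
    simp only [selOK, Bool.and_eq_true, List.all_eq_true]
    refine ⟨?_, fun i hi => ?_⟩
    · rw [hWX, List.toFinset_card_of_nodup hnd', List.length_map, hW, List.length_flatMap] at hXdvd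
      rw [Nat.dvd_iff_mod_eq_zero.mp hXdvd]
      rfl
    · have hM : ∀ i < 14, ((selOrbs m).map fun j => (disjMat.getD i []).getD j 0) =
          (selOrbs m).map fun j => (octOrb j).countP fun k => Nat.beq (Nat.land (octRep i) k) 0 := by
        intro i hi
        refine List.map_congr_left fun j hj => ?_
        have h := disjMat_check
        simp only [List.all_eq_true, List.mem_range] at h
        exact (Nat.eq_of_beq_eq_true (h i hi j (hsel14 j hj))).symm
      have hlt : ∀ i < 14, octRep i ∈ octOrb i := by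
        intro i hi
        have hne : ∀ i < 14, 0 < (octOrb i).length := by decide +kernel
        rw [octRep, List.getD_eq_getElem _ _ (hne i hi)]
        exact List.getElem_mem _
      have hi' := hsel14 i hi
      rw [hM i hi', hM 0 (by norm_num), ← encS_decS (octOrb_mem hi' (hlt i hi')).1,
        ← encS_decS (octOrb_mem (show 0 < 14 by norm_num) (hlt 0 (by norm_num))).1, ← hcount, ← hcount]
      obtain ⟨⟨g, hg⟩, hgi⟩ := (hXmem _).mp ((hsel i hi').mp hi)
      have hgi' : g • fixOctad = decS (octRep i) := hgi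
      rw [← hgi', hrep0, show decS 11055264 = fixOctad by unfold fixOctad; rfl]
      have himg : (X.filter fun x => g • fixOctad ∩ x = ∅) =
          (X.filter fun x => fixOctad ∩ x = ∅).image fun x => g • x := by
        ext y
        simp only [Finset.mem_filter, Finset.mem_image]
        have he : ∀ x, g • fixOctad ∩ g • x = g • (fixOctad ∩ x) := fun x =>
          (Finset.smul_finset_inter (a := (g : Equiv.Perm GolayPt))).symm
        constructor
        · rintro ⟨h1, h2⟩
          refine ⟨g⁻¹ • y, ⟨(hXinv _ (inv_mem hg) y).mpr h1, ?_⟩, smul_inv_smul g y⟩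
          have := he (g⁻¹ • y)
          rw [smul_inv_smul, h2] at this
          exact Finset.smul_finset_eq_empty.mp this.symm
        · rintro ⟨x, ⟨h1, h2⟩, rfl⟩
          exact ⟨(hXinv g hg x).mpr h1, by rw [he, h2, Finset.smul_finset_empty]⟩
      rw [himg, Finset.card_image_of_injective _ (MulAction.injective g)]
      exact Nat.beq_refl _
  have hcases := selections
  simp only [List.all_eq_true, List.mem_range, Bool.or_eq_true, Bool.not_eq_true', List.contains_iff_mem,
    List.mem_cons, List.not_mem_nil, or_false] at hcases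
  have hXfix : ∀ g ∈ H, g • X = X := fun g hg => by
    ext o
    rw [← Finset.smul_mem_smul_finset_iff g⁻¹, inv_smul_smul]
    exact hXinv g⁻¹ (inv_mem hg) o
  obtain ⟨s0, s1, s11, -⟩ := sel_facts
  rcases (hcases m hm).resolve_left (by rw [hok]; exact Bool.noConfusion) with h | h | h
  · left
    intro g hg
    have := hXfix g hg
    rw [hWX, hW, h, s0, List.flatMap_cons, List.flatMap_nil, List.append_nil, horb0] at this
    unfold fixOctad
    simpa using this
  · right; left
    intro g hg
    have := hXfix g hg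
    rwa [hWX, hW, h, trio_fact] at this
  · right; right
    intro g hg
    have hX11 : X = (((selOrbs 11).flatMap octOrb).map decS).toFinset := by rw [hWX, hW, h]
    rw [hW, h] at hWlt
    have hS : fixSextet = ((X ×ˢ X).image fun p => p.1 ∩ p.2).filter fun c => c.card = 4 := by
      rw [← sextet_fact, hX11]
      ext c
      simp only [List.mem_toFinset, List.mem_map, List.mem_flatMap, List.mem_filter, Finset.mem_filter,
        Finset.mem_image, Finset.mem_product, Prod.exists]
      constructor
      · rintro ⟨k, ⟨a, ha, ⟨b, hb, rfl⟩, hk⟩, rfl⟩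
        obtain ⟨a', ha', rfl⟩ : ∃ a', a' ∈ (selOrbs 11).flatMap octOrb ∧ a' = a :=
          ⟨a, List.mem_flatMap.mpr ha, rfl⟩
        obtain ⟨b', hb', rfl⟩ : ∃ b', b' ∈ (selOrbs 11).flatMap octOrb ∧ b' = b :=
          ⟨b, List.mem_flatMap.mpr hb, rfl⟩
        have e : decS (Nat.land a' b') = decS a' ∩ decS b' := by
          refine encS_injective ?_
          rw [encS_inter, encS_decS (hWlt a' ha'), encS_decS (hWlt b' hb'),
            encS_decS (land_lt b' (hWlt a' ha'))]
          rfl
        refine ⟨⟨decS a', decS b', ⟨⟨a', List.mem_flatMap.mp ha', rfl⟩, b', List.mem_flatMap.mp hb', rfl⟩,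
          e.symm⟩, ?_⟩
        rw [← popc_encS, encS_decS (land_lt b' (hWlt a' ha'))]
        exact Nat.eq_of_beq_eq_true hk
      · rintro ⟨⟨A, B, ⟨⟨a, ha, rfl⟩, b, hb, rfl⟩, rfl⟩, hc⟩
        refine ⟨Nat.land a b, ⟨a, ha, ⟨b, hb, rfl⟩, ?_⟩, ?_⟩
        · rw [← popc_encS, encS_inter, encS_decS (hWlt a (List.mem_flatMap.mpr ha)),
            encS_decS (hWlt b (List.mem_flatMap.mpr hb))] at hc
          show Nat.beq (popc (a &&& b)) 4 = true
          rw [hc]
          rfl
        · refine encS_injective ?_
          rw [encS_inter, encS_decS (hWlt a (List.mem_flatMap.mpr ha)),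
            encS_decS (hWlt b (List.mem_flatMap.mpr hb)),
            encS_decS (land_lt b (hWlt a (List.mem_flatMap.mpr ha)))]
          rfl
    rw [hS]
    ext c
    simp only [Finset.mem_smul_finset, Finset.mem_filter, Finset.mem_image, Finset.mem_product, Prod.exists]
    constructor
    · rintro ⟨_, ⟨⟨A, B, ⟨hA, hB⟩, rfl⟩, hc⟩, rfl⟩
      refine ⟨⟨g • A, g • B, ⟨(hXinv g hg A).mpr hA, (hXinv g hg B).mpr hB⟩,
        (Finset.smul_finset_inter (a := (g : Equiv.Perm GolayPt))).symm⟩, ?_⟩
      show ((g : Equiv.Perm GolayPt) • (A ∩ B)).card = 4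
      rwa [Finset.card_smul_finset]
    · rintro ⟨⟨A, B, ⟨hA, hB⟩, rfl⟩, hc⟩
      refine ⟨g⁻¹ • (A ∩ B), ⟨⟨g⁻¹ • A, g⁻¹ • B,
        ⟨(hXinv _ (inv_mem hg) A).mpr hA, (hXinv _ (inv_mem hg) B).mpr hB⟩,
        (Finset.smul_finset_inter (a := ((g⁻¹ : M24) : Equiv.Perm GolayPt))).symm⟩, ?_⟩, smul_inv_smul g _⟩
      show (((g⁻¹ : M24) : Equiv.Perm GolayPt) • (A ∩ B)).card = 4
      rwa [Finset.card_smul_finset]

end CfsgLib.GolayIndex
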